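import Cfsg.Agent.Lib.Recog.UFourSylow.Pins
import Cfsg.Agent.Lib.Recog.USylow.Main
import Cfsg.Agent.Lib.Blocks.Principal
import Cfsg.Agent.Lib.Classical.AbelianSylowTwo

/-!
Owner: helper19. A small character in the principal 2-block gives a strongly embedded normaliser of
`Z(S)`, hence `U₃(4)`, in a simple group with one class of involutions and closed centralisers.
-/

set_option autoImplicit false

namespace CfsgLib.UFour

open Cfsg Subgroup
open CfsgLib.USylow
open CfsgLib.Classical.TwoType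

universe u

variable {G : Type u} [Group G] [Finite G]

/-- A non-trivial character of the principal 2-block with `χ(1) - χ(t) < 32`. -/
def HasSmall (t : G) : Prop :=
  ∃ M : Ideal AlgInt, IsPModular 2 M ∧ ∃ χ ∈ principalBlock M G, ∃ d T : ℤ,
    (χ : G → ℂ) 1 = d ∧ (χ : G → ℂ) t = T ∧ T ≠ d ∧ d - T < 32

variable [IsSimpleGroup G] {S : Sylow 2 G} (hT : UType ↥(S : Subgroup G) 2)
  (hone : ∀ a b : G, orderOf a = 2 → orderOf b = 2 → IsConj a b)

include hT hone

/-- The core of the centraliser of a central involution centralises `Z(S)`. -/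
theorem oC_commute {t : G} (ht : t ∈ Zs S) (ht2 : orderOf t = 2) (hsmall : HasSmall t)
    {u : G} (hu : u ∈ Zs S) : ∀ r ∈ oC t, u * r = r * u := by
  haveI : Fact (Nat.Prime 2) := ⟨Nat.prime_two⟩
  have htC : ∀ r ∈ oC t, t * r = r * t := by
    rintro _ ⟨r, -, rfl⟩
    exact (mem_centralizer_singleton_iff.1 r.2).symm
  intro r hr
  by_cases hu1 : u = 1
  · simp [hu1]
  by_cases hut : u = t
  · exact hut ▸ htC r hr
  have ht1 := CfsgLib.Signalizer.involution_ne_one ht2
  have hp := pins hT ht hu ht1 hu1 hut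
  obtain ⟨M, hM, χ, hχ, d, T, hd, hTv, hne, hlt⟩ := hsmall
  haveI := hM.2.1.isPrime
  haveI := Fintype.ofFinite G
  haveI := Fintype.ofFinite ↥(centralizer ({t} : Set G))
  obtain ⟨n, ρ, -, hρ⟩ := χ.2
  rw [← hρ] at hd hTv
  have hdim : (Module.finrank ℂ (Fin n → ℂ) : ℤ) = d := by
    rw [Representation.char_one] at hd
    exact_mod_cast hd
  have hconj : ∀ v : G, orderOf v = 2 → ρ.character v = T := fun v hv => by
    obtain ⟨g, hg⟩ := isConj_iff.1 (hone t v ht2 hv)
    rw [← hg, Representation.char_conj, hTv]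
  have hinj : Function.Injective ρ := by
    have hker : (MonoidHom.ker (ρ : G →* Module.End ℂ (Fin n → ℂ))) = ⊥ := by
      refine (IsSimpleGroup.eq_bot_or_eq_top_of_normal _ inferInstance).resolve_right fun htop => hne ?_
      have h1 : ρ t = 1 := MonoidHom.mem_ker.1 (htop ▸ mem_top t : t ∈ MonoidHom.ker (ρ : G →* _))
      have h2 : ρ.character t = ρ.character 1 := by
        show LinearMap.trace ℂ _ (ρ t) = LinearMap.trace ℂ _ (ρ 1)
        rw [h1, map_one ρ]
      rw [hd, hTv] at h2
      exact_mod_cast h2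
    exact (MonoidHom.ker_eq_bot_iff _).1 hker
  have hodd : Odd (Nat.card (oC t)) := by
    rw [oC, card_map_of_injective (centralizer ({t} : Set G)).subtype_injective]
    exact CfsgLib.ZStar.odd_card_oddCore _
  have hSO : (S : Subgroup G) ≤ normalizer (oC t : Set G) := fun s hs => by
    refine le_normalizer_map (centralizer ({t} : Set G)).subtype
      ⟨⟨s, mem_centralizer_singleton_iff.2 (hp.t_comm s hs).symm⟩, ?_, rfl⟩
    rw [normalizer_eq_top_iff.2 (inferInstance : (Cfsg.oddCore ↥(centralizer ({t} : Set G))).Normal)]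
    exact mem_top _
  refine commute_of_threshold ρ hp hodd hSO htC hinj (T := T) (hconj u ?_) (hconj _ ?_)
    (fun r hr => ?_) (by rw [hdim]; exact hlt) r hr
  · exact orderOf_eq_prime (by rw [pow_two]; exact hp.u_sq) hu1
  · refine orderOf_eq_prime ?_ fun h => hut ?_
    · rw [pow_two]; exact ((mem_Zs hT).1 (mul_mem ht hu)).2
    · rw [← inv_eq_of_mul_eq_one_right h]; exact inv_eq_of_mul_eq_one_right hp.t_sq
  · obtain ⟨v, hv, rfl⟩ := hr
    rw [← hTv, hρ]
    exact CfsgLib.Blocks.apply_mul_eq_of_mem_principalBlock hM ⟨1, by rw [ht2, pow_one]⟩ hχ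
      (fun h => Nat.not_even_iff_odd.2 (CfsgLib.ZStar.odd_card_oddCore _) (even_iff_two_dvd.2 h)) hv

/-- The centraliser of a central involution centralises `Z(S)`. -/
theorem centralizer_le_Zs {t : G} (ht : t ∈ Zs S) (ht2 : orderOf t = 2)
    (hcl : Closed ↥(centralizer ({t} : Set G))) (hsmall : HasSmall t) :
    centralizer ({t} : Set G) ≤ centralizer (Zs S : Set G) := by
  haveI : Fact (Nat.Prime 2) := ⟨Nat.prime_two⟩
  have hSK : (S : Subgroup G) ≤ centralizer ({t} : Set G) := fun s hs =>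
    mem_centralizer_singleton_iff.2 (mem_centralizer_iff.1 (le_centralizer_Zs S hs) t ht).symm
  have hoC : oC t ≤ centralizer (Zs S : Set G) := fun r hr =>
    mem_centralizer_iff.2 fun u hu => oC_commute hT hone ht ht2 hsmall hu r hr
  have hnorm : normalizer ((S : Subgroup G) : Set G) ⊓ centralizer ({t} : Set G) ≤
      centralizer (Zs S : Set G) := by
    rintro g ⟨hg, hgt⟩
    rw [mem_centralizer_iff]
    intro u hu
    have ht1 := CfsgLib.Signalizer.involution_ne_one ht2
    by_cases hu1 : u = 1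
    · simp [hu1]
    have hgt' := mem_centralizer_singleton_iff.1 hgt
    by_cases hut : u = t
    · exact hut ▸ hgt'.symm
    have hgu : g * u * g⁻¹ ∈ Zs S := (mem_normalizer_iff.1 (normalizer_le_Zs hT hg) u).1 hu
    have hgtu : g * (t * u) * g⁻¹ = t * (g * u * g⁻¹) := by
      rw [← mul_assoc, hgt']; group
    have ht2' := ((mem_Zs hT).1 ht).2
    have hcases : ∀ v ∈ Zs S, v = 1 ∨ v = t ∨ v = u ∨ v = t * u := fun v hv => by
      obtain ⟨a, ha, rfl⟩ := ht
      obtain ⟨b, hb, rfl⟩ := hu
      obtain ⟨c, hc, rfl⟩ := hv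
      rcases center_cases hT ha hb (fun h => ht1 (by rw [h, map_one]))
        (fun h => hu1 (by rw [h, map_one])) (fun h => hut (by rw [h])) hc with e | e | e | e <;>
        simp [e]
    rcases hcases _ hgu with e | e | e | e
    · exact absurd (by rwa [mul_inv_eq_one, mul_eq_left] at e) hu1
    · refine absurd ?_ hut
      rw [← mul_inv_cancel_right t g, ← hgt'] at e
      exact mul_left_cancel (mul_right_cancel e)
    · exact (mul_inv_eq_iff_eq_mul.1 e).symm
    · exfalso
      have e2 : g * g * u * (g * g)⁻¹ = u := by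
        rw [show g * g * u * (g * g)⁻¹ = g * (g * u * g⁻¹) * g⁻¹ by group, e, hgtu, e, ← mul_assoc, ht2',
          one_mul]
      haveI : ((S : Subgroup G).subgroupOf (normalizer ((S : Subgroup G) : Set G))).Normal :=
        Subgroup.normal_in_normalizer
      set k := ((S : Subgroup G).subgroupOf (normalizer ((S : Subgroup G) : Set G))).index
      have hk : g ^ k ∈ (S : Subgroup G) := mem_subgroupOf.1 (Subgroup.pow_index_mem
        ((S : Subgroup G).subgroupOf (normalizer ((S : Subgroup G) : Set G))) ⟨g, hg⟩)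
      have hodd : Odd k := Nat.not_even_iff_odd.1 fun he => S.not_dvd_index ((even_iff_two_dvd.1 he).trans
        ⟨_, (Subgroup.relIndex_mul_index (le_normalizer (H := (S : Subgroup G)))).symm⟩)
      obtain ⟨i, hi⟩ := hodd
      have h1 : Commute u (g ^ k) := mem_centralizer_iff.1 (le_centralizer_Zs S hk) u hu
      have h2 : Commute u ((g * g) ^ i) :=
        (show Commute u (g * g) from (mul_inv_eq_iff_eq_mul.1 e2).symm).pow_right i
      rw [hi, pow_succ, pow_mul, pow_two] at h1
      have h3 : Commute u g := by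
        have := h2.inv_right.mul_right h1
        rwa [inv_mul_cancel_left] at this
      rw [show g * u * g⁻¹ = u by rw [← h3.eq, mul_inv_cancel_right]] at e
      exact ht1 (mul_eq_right.1 e.symm)
  intro g hg
  set K := centralizer ({t} : Set G) with hK
  have h1 : (⟨g, hg⟩ : K) ∈ normalizer (((S.subtype hSK : Sylow 2 K) : Subgroup K) : Set K) ⊔ Cfsg.oddCore K := by
    rw [sup_comm, hcl (S.subtype hSK)]
    exact mem_top _
  obtain ⟨n, hn, r, hr, e⟩ := (CfsgLib.Core.mem_sup_iff_mul (by
    rw [normalizer_eq_top_iff.2 (inferInstance : (Cfsg.oddCore K).Normal)]; exact le_top)).1 h1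
  rw [show g = (n : G) * r from congrArg Subtype.val e]
  refine mul_mem (hnorm ⟨?_, n.2⟩) (hoC ⟨r, hr, rfl⟩)
  have := le_normalizer_map K.subtype ⟨n, hn, rfl⟩
  rwa [Sylow.coe_subtype, subgroupOf_map_subtype, inf_eq_left.2 hSK] at this

/-- The conclusion. -/
theorem unitary_of_small (hcl : ∀ t ∈ Zs S, orderOf t = 2 → Closed ↥(centralizer ({t} : Set G)))
    (hsmall : ∀ t ∈ Zs S, orderOf t = 2 → HasSmall t) :
    ∃ (F : Type) (_ : Field F) (_ : Fintype F), Fintype.card F = (2 ^ 2) ^ 2 ∧
      Nonempty (G ≃* Cfsg.PSU 3 F (2 ^ 2)) := by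
  haveI : Fact (Nat.Prime 2) := ⟨Nat.prime_two⟩
  obtain ⟨a, ha, -, -, ha2, -, -⟩ := exists_two_involutions hT le_rfl
  have hO : Cfsg.oddCore G = ⊥ := CfsgLib.Classical.AbSylow.oddCore_eq_bot_simple ha2
  set E := Zs S with hE
  set M := normalizer (E : Set G) with hM
  have hCE : ∀ t ∈ E, t ≠ 1 → centralizer ({t} : Set G) = centralizer (E : Set G) := fun t ht ht1 => by
    have ht2 : orderOf t = 2 := orderOf_eq_prime (by rw [pow_two]; exact ((mem_Zs hT).1 ht).2) ht1
    exact le_antisymm (centralizer_le_Zs hT hone ht ht2 (hcl t ht ht2) (hsmall t ht ht2))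
      (Subgroup.centralizer_le (Set.singleton_subset_iff.2 ht))
  have hSM : (S : Subgroup G) ≤ M := le_normalizer.trans (normalizer_le_Zs hT)
  have hne : M ≠ ⊤ := fun h => by
    haveI : E.Normal := normalizer_eq_top_iff.1 h
    rcases IsSimpleGroup.eq_bot_or_eq_top_of_normal E inferInstance with h' | h'
    · exact CfsgLib.Signalizer.involution_ne_one ha2 (mem_bot.1 (h' ▸ ha))
    · obtain ⟨y, hy, hyy⟩ := exists_root hT (by norm_num) ha
      exact CfsgLib.Signalizer.involution_ne_one ha2
        (hyy.symm.trans ((mem_Zs hT).1 (show y ∈ E from h'.symm ▸ mem_top y)).2)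
  -- the involutions of `N(E)` lie in `E`
  have hinv : ∀ x ∈ M, x * x = 1 → x ∈ E := fun x hx hx2 => by
    by_cases hx1 : x = 1
    · exact hx1 ▸ one_mem _
    obtain ⟨h, hh, hhS⟩ := exists_conj_mem S hSM (zpowers_le.2 hx)
      (isPGroup_of_involution (orderOf_eq_prime (by rw [pow_two]; exact hx2) hx1))
    have h1 : h * x * h⁻¹ ∈ E := (mem_Zs hT).2 ⟨hhS x (mem_zpowers x), by
      rw [show h * x * h⁻¹ * (h * x * h⁻¹) = h * (x * x) * h⁻¹ by group, hx2, mul_one, mul_inv_cancel]⟩
    exact (mem_normalizer_iff.1 hh x).2 h1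
  have hstr : Cfsg.IsStronglyEmbedded M := by
    refine ⟨hne, ?_, fun g hg => Nat.not_even_iff_odd.1 fun he => hg ?_⟩
    · exact even_iff_two_dvd.2 ((ha2 ▸ Subgroup.orderOf_dvd_natCard _ (hSM (Zs_le S ha))) : 2 ∣ Nat.card M)
    obtain ⟨⟨e, heM, e', he'M, hge⟩, hord⟩ := exists_prime_orderOf_dvd_card' 2 (even_iff_two_dvd.1 he)
    replace hord : orderOf e = 2 := (Subgroup.orderOf_coe _).trans hord
    have hsq := CfsgLib.Signalizer.involution_sq hord
    have he1 := CfsgLib.Signalizer.involution_ne_one hord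
    have heE := hinv e heM hsq
    replace hge : g * e' * g⁻¹ = e := hge
    have he'2 : e' * e' = 1 := by
      have : g * (e' * e') * g⁻¹ = 1 := by
        rw [show g * (e' * e') * g⁻¹ = g * e' * g⁻¹ * (g * e' * g⁻¹) by group, hge, hsq]
      rwa [mul_inv_eq_one, mul_eq_left] at this
    have he'E := hinv e' he'M he'2
    have he'1 : e' ≠ 1 := fun h => he1 (by rw [← hge, h]; group)
    refine mem_normalizer_Zs hT fun z hz => Zs_le S (hinv _ ?_ ?_)
    · -- `g z g⁻¹` centralises `e`, hence lies in `C(E) ≤ N(E)`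
      refine centralizer_le_normalizer _ ((hCE e heE he1).le (mem_centralizer_singleton_iff.2 ?_))
      have hc : z * e' = e' * z := mem_centralizer_iff.1 (le_centralizer_Zs S (Zs_le S he'E)) z hz
      rw [← hge, show g * z * g⁻¹ * (g * e' * g⁻¹) = g * (z * e') * g⁻¹ by group, hc]
      group
    · rw [show g * z * g⁻¹ * (g * z * g⁻¹) = g * (z * z) * g⁻¹ by group, ((mem_Zs hT).1 hz).2, mul_one,
        mul_inv_cancel]
  obtain ⟨L, hL, hodd, F, i1, i2, hF, ⟨e⟩⟩ := unitary_of_stronglyEmbedded hT le_rfl hO hstr hSM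
  rcases IsSimpleGroup.eq_bot_or_eq_top_of_normal L hL with h | h
  · exfalso
    rw [h, Subgroup.index_bot] at hodd
    exact Nat.not_even_iff_odd.2 hodd (even_iff_two_dvd.2 (ha2 ▸ orderOf_dvd_natCard a))
  · exact ⟨F, i1, i2, hF, ⟨(Subgroup.topEquiv.symm.trans (MulEquiv.subgroupCongr h.symm)).trans e⟩⟩

end CfsgLib.UFour
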