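import Cfsg.Agent.Lib.Recog.UFourSylow.LocalQuot
import Cfsg.Agent.Lib.Recog.UFourSylow.Block.Setup
import Cfsg.Agent.Lib.Recog.USylow.Main
import Cfsg.Agent.Lib.Core.SolvableStruct
import Cfsg.Agent.Lib.Blocks.SimplePrincipal
import Cfsg.Agent.Lib.Transfer.PResidual
import Cfsg.Prelude.Def_Transfer

/-!
Owner: helper8.  The local structure `Block.Loc` for a simple group with a Sylow 2-subgroup of the type of
`U₃(4)`, one class of involutions, and a centraliser `C(t)` which is closed but not 2-nilpotent.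
-/

set_option autoImplicit false
set_option linter.unusedSectionVars false

namespace CfsgLib.UFour

open Subgroup
open CfsgLib.USylow

universe u

variable {G : Type u} [Group G] [Finite G]

/-- `C(t) ⧸ O(C(t))`. -/
abbrev CQ (t : G) : Type u :=
  ↥(centralizer ({t} : Set G)) ⧸ Cfsg.oddCore ↥(centralizer ({t} : Set G))

variable {S : Sylow 2 G} {t : G}

section

variable (hle : (S : Subgroup G) ≤ centralizer ({t} : Set G))

/-- `S → C(t) ⧸ O(C(t))`. -/
def toCQ : ↥(S : Subgroup G) →* CQ t :=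
  (QuotientGroup.mk' _).comp (Subgroup.inclusion hle)

theorem toCQ_apply (s : (S : Subgroup G)) : toCQ hle s =
    QuotientGroup.mk' (Cfsg.oddCore ↥(centralizer ({t} : Set G))) ⟨s, hle s.2⟩ := rfl

theorem toCQ_injective : Function.Injective (toCQ hle) := by
  rw [← MonoidHom.ker_eq_bot_iff, eq_bot_iff_forall]
  intro s hs
  rw [MonoidHom.mem_ker, toCQ_apply, QuotientGroup.mk'_apply, QuotientGroup.eq_one_iff] at hs
  have hdvd := Subgroup.orderOf_dvd_natCard _ hs
  rw [← Subgroup.orderOf_coe, Subgroup.orderOf_coe s] at hdvd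
  obtain ⟨k, hk⟩ := IsPGroup.iff_orderOf.1 S.2 s
  rw [hk] at hdvd
  rcases k with _ | k
  · exact orderOf_eq_one_iff.1 (hk.trans (pow_zero 2))
  · exact absurd (dvd_trans (dvd_pow_self 2 k.succ_ne_zero) hdvd) fun h =>
      Nat.not_even_iff_odd.2 (CfsgLib.ZStar.odd_card_oddCore _) (even_iff_two_dvd.2 h)

theorem range_toCQ : (toCQ hle).range = ((S.subtype hle : Sylow 2 _) :
    Subgroup ↥(centralizer ({t} : Set G))).map (QuotientGroup.mk' _) := by
  rw [toCQ, MonoidHom.range_comp, Subgroup.inclusion_range, Sylow.coe_subtype]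

end

/-- The normaliser of `S` in `C(t)` maps onto the quotient. -/
theorem exists_normalizer_lift (hle : (S : Subgroup G) ≤ centralizer ({t} : Set G))
    (hcl : Closed ↥(centralizer ({t} : Set G))) (q : CQ t) :
    ∃ g : ↥(centralizer ({t} : Set G)), QuotientGroup.mk' _ g = q ∧
      ∀ s ∈ (S : Subgroup G), (g : G) * s * (g : G)⁻¹ ∈ (S : Subgroup G) := by
  obtain ⟨c, rfl⟩ := QuotientGroup.mk'_surjective _ q
  have hc : c ∈ Cfsg.oddCore ↥(centralizer ({t} : Set G)) ⊔
      normalizer ((S.subtype hle : Subgroup ↥(centralizer ({t} : Set G))) : Set _) :=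
    hcl (S.subtype hle) ▸ mem_top c
  rw [← SetLike.mem_coe, Subgroup.normal_mul] at hc
  obtain ⟨o, ho, k, hk, rfl⟩ := hc
  refine ⟨k, by rw [map_mul, show QuotientGroup.mk' _ o = (1 : CQ t) from (QuotientGroup.eq_one_iff o).2 ho,
    one_mul], fun s hs => ?_⟩
  have h := (mem_normalizer_iff.1 hk ⟨s, hle hs⟩).1 (by rw [Sylow.coe_subtype, mem_subgroupOf]; exact hs)
  rw [Sylow.coe_subtype, mem_subgroupOf] at h
  exact h

section

variable (hT : UType ↥(S : Subgroup G) 2) (htS : t ∈ Zs S)
include hT htS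

theorem le_cent : (S : Subgroup G) ≤ centralizer ({t} : Set G) := fun s hs =>
  mem_centralizer_singleton_iff.2 (mem_centralizer_iff.1 (le_centralizer_Zs S hs) t htS).symm

variable (ht : orderOf t = 2) (hcl : Closed ↥(centralizer ({t} : Set G)))
include ht hcl

/-- The quotient has the properties of `Ext`. -/
theorem ext_CQ : Ext (toCQ (le_cent hT htS)).range
    (toCQ (le_cent hT htS) ⟨t, Zs_le S htS⟩) := by
  have : Fact (Nat.Prime 2) := ⟨Nat.prime_two⟩
  set hle := le_cent hT htS
  set T := (toCQ hle).range with hTdef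
  set Sb := (S.subtype hle).mapSurjective (QuotientGroup.mk'_surjective
    (Cfsg.oddCore ↥(centralizer ({t} : Set G))))
  have hTS : T = (Sb : Subgroup (CQ t)) := by
    rw [Sylow.coe_mapSurjective, hTdef, range_toCQ]
  have hnormal : T.Normal := by
    refine ⟨fun y hy q => ?_⟩
    obtain ⟨g, rfl, hg⟩ := exists_normalizer_lift hle hcl q
    obtain ⟨s, rfl⟩ := hy
    refine ⟨⟨(g : G) * s * (g : G)⁻¹, hg s s.2⟩, ?_⟩
    simp only [toCQ_apply, ← map_inv, ← map_mul]
    rfl
  have : Group.IsSolvable ↥(centralizer ({t} : Set G)) := solvable_of_closed hcl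
  have : Group.IsSolvable (CQ t) :=
    Group.isSolvable_of_surjective (f := QuotientGroup.mk' _) (QuotientGroup.mk'_surjective _)
  refine ⟨hnormal, ?_, hT.of_equiv (MonoidHom.ofInjective (toCQ_injective hle)).symm, ?_, ⟨_, rfl⟩, ?_, ?_, ?_⟩
  · rw [hTS]
    exact Nat.not_even_iff_odd.1 fun he => Sb.not_dvd_index (even_iff_two_dvd.1 he)
  · have hp : Cfsg.pCore 2 (CQ t) = T := by
      refine le_antisymm (hTS ▸ CfsgLib.Core.pCore_le_sylow Sb) ?_
      exact CfsgLib.Core.le_pCore (hTS ▸ Sb.2)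
    rw [← hp]
    exact CfsgLib.Core.centralizer_pCore_le_of_pPrimeCore_eq_bot
      (CfsgLib.Core.pPrimeCore_quotient_pPrimeCore 2 _)
  · rw [← map_mul, ← map_one (toCQ hle)]
    exact congrArg _ (Subtype.ext ((mem_Zs hT).1 htS).2)
  · intro h
    rw [← map_one (toCQ hle)] at h
    exact CfsgLib.Signalizer.involution_ne_one ht (congrArg Subtype.val (toCQ_injective hle h))
  · intro q
    obtain ⟨c, rfl⟩ := QuotientGroup.mk'_surjective _ q
    rw [toCQ_apply, ← map_mul, ← map_mul]
    exact congrArg _ (Subtype.ext (mem_centralizer_singleton_iff.1 c.2))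

/-- Without a normal 2-complement the quotient of `C(t)` has an element of order five. -/
theorem index_five (hnil : ¬ Cfsg.HasNormalPComplement 2 ↥(centralizer ({t} : Set G))) :
    (toCQ (le_cent hT htS)).range.index = 5 := by
  have : Fact (Nat.Prime 2) := ⟨Nat.prime_two⟩
  have X := ext_CQ hT htS ht hcl
  refine X.index_cases.resolve_left fun h1 => hnil
    ⟨S.subtype (le_cent hT htS), Cfsg.oddCore ↥(centralizer ({t} : Set G)), inferInstance, ?_⟩
  set N := Cfsg.oddCore ↥(centralizer ({t} : Set G))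
  have hS : Nat.card ↥((S.subtype (le_cent hT htS) : Sylow 2 _) : Subgroup ↥(centralizer ({t} : Set G))) = 64 := by
    rw [Sylow.coe_subtype, Nat.card_congr (subgroupOfEquivOfLe (le_cent hT htS)).toEquiv, hT.card]
    norm_num
  have hQ : Nat.card (CQ t) = 64 := by
    have := (toCQ (le_cent hT htS)).range.card_mul_index
    rw [h1, mul_one, X.shape.card] at this
    rw [← this]; norm_num
  refine isComplement'_of_coprime ?_ ?_
  · rw [hS, ← hQ, ← index_eq_card, N.card_mul_index]
  · rw [hS, show (64 : ℕ) = 2 ^ 6 by norm_num]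
    exact (Nat.coprime_two_right.2 (CfsgLib.ZStar.odd_card_oddCore _)).pow_right 6

omit ht hcl in
/-- An element of order four is inverted by no involution. -/
theorem not_inverted {y a : G} (hy : y ∈ (S : Subgroup G)) (hy2 : y * y ≠ 1) (ha : orderOf a = 2) :
    a * y * a⁻¹ ≠ y⁻¹ := by
  have : Fact (Nat.Prime 2) := ⟨Nat.prime_two⟩
  intro hinv
  have hy' : IsPGroup 2 (zpowers y) := S.2.to_le (zpowers_le.2 hy)
  have hmap : (zpowers y).map (MulAut.conj a).toMonoidHom = zpowers y := by
    rw [MonoidHom.map_zpowers]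
    show zpowers (a * y * a⁻¹) = _
    rw [hinv, zpowers_inv]
  have hQ : IsPGroup 2 (zpowers a ⊔ zpowers y : Subgroup G) :=
    (isPGroup_of_involution ha).to_sup_of_normal_right' hy'
      (zpowers_le.2 (mem_normalizer_iff_map_conj_eq.2 hmap))
  obtain ⟨h, hh⟩ := exists_conj_into_top S hQ
  have hy1 := hh y (mem_sup_right (mem_zpowers y))
  have ha1 := hh a (mem_sup_left (mem_zpowers a))
  have haz : h * a * h⁻¹ ∈ Zs S := (mem_Zs hT).2 ⟨ha1, by
    rw [show h * a * h⁻¹ * (h * a * h⁻¹) = h * (a * a) * h⁻¹ by group, CfsgLib.Signalizer.involution_sq ha,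
      mul_one, mul_inv_cancel]⟩
  have hc : a * y = y * a := (MulAut.conj h).injective (by
    simp only [map_mul, MulAut.conj_apply]
    exact mem_centralizer_iff.1 (le_centralizer_Zs S hy1) _ haz)
  rw [hc, mul_inv_cancel_right] at hinv
  exact hy2 (mul_eq_one_iff_eq_inv.2 hinv)

omit hcl in
theorem card_zs : Nat.card (Zs S) = 4 := by rw [card_Zs hT]; norm_num

variable (hone : ∀ z : G, orderOf z = 2 → IsConj z t)
include hone

/-- All elements of `S` outside its centre are conjugate. -/
theorem fused_four (h5 : (toCQ (le_cent hT htS)).range.index = 5) {x : G} (hx : x ∈ (S : Subgroup G))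
    (hxx : x * x = t) {s : G} (hs : s ∈ (S : Subgroup G)) (hsE : s ∉ Zs S) : IsConj x s := by
  have : Fact (Nat.Prime 2) := ⟨Nat.prime_two⟩
  set hle := le_cent hT htS
  have X := ext_CQ hT htS ht hcl
  have hcZ : s * s ∈ Zs S := ⟨⟨s, hs⟩ * ⟨s, hs⟩, hT.sq_mem _, rfl⟩
  have hc1 : s * s ≠ 1 := fun e => hsE ((mem_Zs hT).2 ⟨hs, e⟩)
  have hco : orderOf (s * s) = 2 :=
    CfsgLib.Signalizer.orderOf_eq_two_of hc1 ((mem_Zs hT).1 hcZ).2
  obtain ⟨g, hg⟩ := isConj_iff.1 (hone (s * s) hco)
  have hZc : ∀ z ∈ Zs S, z ∈ centralizer ((S : Subgroup G) : Set G) := fun z hz =>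
    mem_centralizer_iff.2 fun y hy => (mem_centralizer_iff.1 (le_centralizer_Zs S hy) z hz).symm
  obtain ⟨n, hn, hnc⟩ := Sylow.conj_eq_normalizer_conj_of_mem_centralizer S (s * s) g⁻¹ (hZc _ hcZ)
    (by rw [inv_inv, hg]; exact hZc _ htS)
  rw [inv_inv, hg] at hnc
  set s' := n⁻¹ * s * n with hs'
  have hs'S : s' ∈ (S : Subgroup G) := by
    have := (mem_normalizer_iff.1 (inv_mem hn) s).1 hs
    rwa [inv_inv] at this
  have hs's : s' * s' = t := by rw [hnc, hs']; group
  have hroot : ∀ {y : G} (hy : y ∈ (S : Subgroup G)), y * y = t →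
      toCQ hle ⟨y, hy⟩ * toCQ hle ⟨y, hy⟩ = toCQ hle ⟨t, Zs_le S htS⟩ := fun hy e => by
    rw [← map_mul]; exact congrArg _ (Subtype.ext e)
  obtain ⟨q, hq⟩ := X.conj_roots h5 ⟨_, rfl⟩ (hroot hx hxx) ⟨_, rfl⟩ (hroot hs'S hs's)
  obtain ⟨k, rfl, hk⟩ := exists_normalizer_lift hle hcl q
  have hkx : (k : G) * x * (k : G)⁻¹ = s' := by
    refine congrArg Subtype.val (a₁ := (⟨_, hk x hx⟩ : (S : Subgroup G))) (a₂ := ⟨s', hs'S⟩)
      (toCQ_injective hle ?_)
    rw [← hq]
    simp only [toCQ_apply, ← map_inv, ← map_mul]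
    rfl
  refine isConj_iff.2 ⟨n * k, ?_⟩
  rw [show n * k * x * (n * (k : G))⁻¹ = n * ((k : G) * x * (k : G)⁻¹) * n⁻¹ by group, hkx, hs']
  group

/-- **The local structure of the case fifteen.** -/
theorem exists_loc (hnil : ¬ Cfsg.HasNormalPComplement 2 ↥(centralizer ({t} : Set G))) :
    ∃ (x : G) (A : Subgroup G) (f : ↥(centralizer ({t} : Set G))),
      CfsgLib.Recog.UFourSylow.Block.Loc t x (S : Subgroup G) A (Zs S)
        (Cfsg.oddCore ↥(centralizer ({t} : Set G))) f := by
  have : Fact (Nat.Prime 2) := ⟨Nat.prime_two⟩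
  set hle := le_cent hT htS
  set N := Cfsg.oddCore ↥(centralizer ({t} : Set G))
  set π := QuotientGroup.mk' N
  have X := ext_CQ hT htS ht hcl
  have h5 := index_five hT htS ht hcl hnil
  have ht2 : t * t = 1 := CfsgLib.Signalizer.involution_sq ht
  have ht1 : t ≠ 1 := CfsgLib.Signalizer.involution_ne_one ht
  have hNodd : Odd (Nat.card N) := CfsgLib.ZStar.odd_card_oddCore _
  obtain ⟨x, hx, hxx⟩ := exists_root hT (by norm_num : 1 ≤ 2) htS
  have hx2 : x * x ≠ 1 := hxx ▸ ht1
  have hxE : x ∉ Zs S := fun h => hx2 ((mem_Zs hT).1 h).2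
  set xb := toCQ hle ⟨x, hx⟩
  have hxbT : xb ∈ (toCQ hle).range := ⟨_, rfl⟩
  have hxb : xb * xb = toCQ hle ⟨t, Zs_le S htS⟩ := by
    rw [← map_mul]; exact congrArg _ (Subtype.ext hxx)
  -- the abelian subgroup
  set A := (S : Subgroup G) ⊓ centralizer ({x} : Set G) with hA
  have hAmap : (A.subgroupOf (S : Subgroup G)).map (toCQ hle) = aT (toCQ hle).range xb := by
    ext q
    constructor
    · rintro ⟨a, ha, rfl⟩
      refine X.mem_aT.2 ⟨⟨a, rfl⟩, ?_⟩
      rw [← map_mul, ← map_mul]
      exact congrArg _ (Subtype.ext (mem_centralizer_singleton_iff.1 ha.2))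
    · intro hq
      obtain ⟨⟨a, rfl⟩, hc⟩ := X.mem_aT.1 hq
      rw [← map_mul, ← map_mul] at hc
      exact ⟨a, ⟨a.2, mem_centralizer_singleton_iff.2 (congrArg Subtype.val (toCQ_injective hle hc))⟩, rfl⟩
  have hAcard : Nat.card A = 16 := by
    rw [← X.card_aT hxbT (by rw [hxb]; exact X.ne_τ), ← hAmap,
      card_map_of_injective (toCQ_injective hle),
      Nat.card_congr (subgroupOfEquivOfLe (inf_le_left : A ≤ _)).toEquiv]
  have hxnc : (⟨x, hx⟩ : (S : Subgroup G)) ∉ center ↥(S : Subgroup G) := fun h =>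
    hx2 (congrArg Subtype.val ((hT.center_iff _).1 h))
  -- an element of order five
  obtain ⟨φ, hφ⟩ := X.exists_five h5
  obtain ⟨g, hg⟩ := QuotientGroup.mk'_surjective N φ
  obtain ⟨k, m, hm, hgo⟩ := Nat.exists_eq_two_pow_mul_odd (orderOf_pos g).ne'
  set f := g ^ 2 ^ (4 * k) with hf
  have hπf : π f = φ := by
    rw [hf, map_pow, show π g = φ from hg, ← pow_mod_orderOf φ, hφ, pow_mul, Nat.pow_mod]
    norm_num
  have hfodd : ¬ 2 ∣ orderOf f := by
    have hdvd : orderOf f ∣ m := by
      refine orderOf_dvd_of_pow_eq_one ?_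
      rw [hf, ← pow_mul, show 2 ^ (4 * k) * m = 2 ^ (3 * k) * orderOf g by
        rw [hgo, ← mul_assoc, ← pow_add]; congr 2; ring, mul_comm, pow_mul, pow_orderOf_eq_one, one_pow]
    exact fun h => Nat.not_even_iff_odd.2 hm (even_iff_two_dvd.2 (h.trans hdvd))
  refine ⟨x, A, f, {
    orderOf_t := ?orderOf_t,
    orderOf_x := ?orderOf_x,
    conj_inv := ?conj_inv,
    no_inv := ?no_inv,
    pair := ?pair,
    cent_x := ?cent_x,
    card_S := ?card_S,
    card_A := ?card_A,
    card_E := ?card_E,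
    E_le := ?E_le,
    A_le := ?A_le,
    A_comm := ?A_comm,
    t_mem := ?t_mem,
    fused_E := ?fused_E,
    fused_S := ?fused_S,
    odd_N := ?odd_N,
    index_N := ?index_N,
    sylow := ?sylow,
    inv_central := ?inv_central,
    odd_f := ?odd_f,
    pow_f := ?pow_f,
    cent_f := ?cent_f }⟩
  case orderOf_t => exact ht
  case orderOf_x =>
    rw [show 4 = 2 ^ (1 + 1) from rfl]
    refine orderOf_eq_prime_pow (by rw [pow_one, pow_two]; exact hx2) ?_
    rw [show 2 ^ (1 + 1) = 2 + 2 from rfl, pow_add, pow_two, hxx, ht2]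
  case conj_inv =>
    exact fused_four hT htS ht hcl hone h5 hx hxx (inv_mem hx) fun h => hxE (inv_mem_iff.1 h)
  case no_inv => exact fun a ha => not_inverted hT htS hx hx2 ha
  case pair =>
    obtain ⟨a, ha, b, hb, ha2, hb2, hne⟩ := exists_two_involutions hT le_rfl
    obtain ⟨c, hc, hc2, hct⟩ : ∃ c ∈ Zs S, orderOf c = 2 ∧ c ≠ t := by
      by_cases h : a = t
      · exact ⟨b, hb, hb2, fun e => hne (h.trans e.symm)⟩
      · exact ⟨a, ha, ha2, h⟩
    have hcc := CfsgLib.Signalizer.involution_sq hc2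
    have hd : c * t ≠ 1 := fun e => hct (mul_right_cancel (e.trans ht2.symm))
    exact ⟨c, c * t, (hone c hc2).symm, (hone _ (CfsgLib.Signalizer.orderOf_eq_two_of hd
      ((mem_Zs hT).1 (mul_mem hc htS)).2)).symm, by rw [← mul_assoc, hcc, one_mul]⟩
  case cent_x =>
    have hxt : centralizer ({x} : Set G) ≤ centralizer ({t} : Set G) := fun y hy => by
      have h : Commute y x := mem_centralizer_singleton_iff.1 hy
      exact mem_centralizer_singleton_iff.2 (hxx ▸ h.mul_right h).eq
    set ρ := π.comp (Subgroup.inclusion hxt)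
    refine ⟨ρ.ker, inferInstance, ?_, ?_⟩
    · have h1 : ρ.ker.map (Subgroup.inclusion hxt) ≤ N := by
        rintro _ ⟨y, hy, rfl⟩
        exact (QuotientGroup.eq_one_iff _).1 hy
      have h2 := card_dvd_of_le h1
      rw [card_map_of_injective (Subgroup.inclusion_injective hxt)] at h2
      exact fun h => Nat.not_even_iff_odd.2 hNodd (even_iff_two_dvd.2 (h.trans h2))
    · rw [index_ker]
      refine le_antisymm (le_trans (card_le_of_le ?_) (X.card_centralizer h5 hxbT hxb).le) ?_
      · rintro _ ⟨y, rfl⟩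
        refine mem_centralizer_singleton_iff.2 ?_
        show π _ * π _ = π _ * π _
        rw [← map_mul, ← map_mul]
        exact congrArg _ (Subtype.ext (mem_centralizer_singleton_iff.1 y.2))
      · rw [show (2 : ℕ) ^ 4 = 16 by norm_num, ← hAcard,
          ← Nat.card_congr (subgroupOfEquivOfLe (inf_le_left : A ≤ _)).toEquiv,
          ← card_map_of_injective (toCQ_injective hle)]
        refine card_le_of_le ?_
        rintro _ ⟨a, ha, rfl⟩
        exact ⟨⟨a, ha.2⟩, rfl⟩
  case card_S => rw [hT.card]; norm_num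
  case card_A => exact hAcard
  case card_E => exact card_zs hT htS ht
  case E_le =>
    exact le_inf (Zs_le S) fun z hz => mem_centralizer_singleton_iff.2
      (mem_centralizer_iff.1 (le_centralizer_Zs S hx) z hz)
  case A_le => exact inf_le_left
  case A_comm =>
    intro a ha b hb
    exact congrArg Subtype.val (hT.cen_comm _ hxnc ⟨a, ha.1⟩ ⟨b, hb.1⟩
      (Subtype.ext (mem_centralizer_singleton_iff.1 ha.2))
      (Subtype.ext (mem_centralizer_singleton_iff.1 hb.2))).eq
  case t_mem => exact htS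
  case fused_E =>
    exact fun e he he1 => (hone e (CfsgLib.Signalizer.orderOf_eq_two_of he1 ((mem_Zs hT).1 he).2)).symm
  case fused_S => exact fun s hs hsE => fused_four hT htS ht hcl hone h5 hx hxx hs hsE
  case odd_N => exact fun h => Nat.not_even_iff_odd.2 hNodd (even_iff_two_dvd.2 h)
  case index_N => rw [index_eq_card]; exact X.card_Q h5
  case sylow => exact ⟨_, X.normal, by rw [X.shape.card]; norm_num⟩
  case inv_central => exact fun q hq r => ((X.involution_central h5 hq r).symm)

  case odd_f => exact hfodd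
  case pow_f =>
    refine (QuotientGroup.eq_one_iff (N := N) _).1 ?_
    show π (f ^ 5) = 1
    rw [map_pow, hπf, ← hφ, pow_orderOf_eq_one]
  case cent_f =>
    show Nat.card (centralizer ({π f} : Set (CQ t))) = 20
    rw [hπf]
    exact X.card_cent_five h5 hφ

end

/-- With one class of involutions, one 2-nilpotent involution centraliser makes all of them 2-nilpotent. -/
theorem twoNilp_of_one_class (hone : ∀ z : G, orderOf z = 2 → IsConj z t)
    (h : Cfsg.HasNormalPComplement 2 ↥(centralizer ({t} : Set G))) (z : G) (hz : orderOf z = 2) :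
    Cfsg.HasNormalPComplement 2 ↥(centralizer ({z} : Set G)) := by
  have : Fact (Nat.Prime 2) := ⟨Nat.prime_two⟩
  obtain ⟨g, hg⟩ := isConj_iff.1 (hone z hz)
  let f : centralizer ({z} : Set G) →* centralizer ({t} : Set G) :=
    ((MulAut.conj g).toMonoidHom.comp (centralizer ({z} : Set G)).subtype).codRestrict _ fun y =>
      mem_centralizer_singleton_iff.2 (hg ▸
        (Commute.map (mem_centralizer_singleton_iff.1 y.2 : Commute (y : G) z) (MulAut.conj g).toMonoidHom).eq)
  exact CfsgLib.Transfer.hasNormalPComplement_of_injective f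
    (fun a b e => Subtype.ext ((MulAut.conj g).injective (congrArg Subtype.val e))) h

/-- Either all involution centralisers are 2-nilpotent, or every central involution of `S` has a `Loc`. -/
theorem twoNilp_or_loc (hT : UType ↥(S : Subgroup G) 2)
    (hone : ∀ y z : G, orderOf y = 2 → orderOf z = 2 → IsConj y z)
    (hcl : ∀ z : G, orderOf z = 2 → Closed ↥(centralizer ({z} : Set G))) :
    (∀ z : G, orderOf z = 2 → Cfsg.HasNormalPComplement 2 ↥(centralizer ({z} : Set G))) ∨
      ∀ t ∈ Zs S, orderOf t = 2 → ∃ (x : G) (A : Subgroup G) (f : ↥(centralizer ({t} : Set G))),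
        CfsgLib.Recog.UFourSylow.Block.Loc t x (S : Subgroup G) A (Zs S)
          (Cfsg.oddCore ↥(centralizer ({t} : Set G))) f := by
  by_cases h : ∀ z : G, orderOf z = 2 → Cfsg.HasNormalPComplement 2 ↥(centralizer ({z} : Set G))
  · exact Or.inl h
  · exact Or.inr fun t htS ht => exists_loc hT htS ht (hcl t ht) (fun z hz => hone z t hz ht)
      fun hn => h (twoNilp_of_one_class (fun z hz => hone z t hz ht) hn)

omit [Finite G] in
/-- In a simple group only the trivial character is constant at an involution and the identity. -/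
theorem apply_ne_degree_of_simple [Fintype G] [IsSimpleGroup G] (htop : t ≠ 1) {χ : Cfsg.IrrCharacter G}
    (h : χ ≠ CfsgLib.Char.trivChar G) : (χ : G → ℂ) t ≠ (χ : G → ℂ) 1 := fun e => by
  rcases (CfsgLib.Blocks.normal_charKer χ).eq_bot_or_eq_top with hk | hk
  · exact htop (mem_bot.1 (hk ▸ CfsgLib.Blocks.mem_charKer.2 e))
  · exact h (CfsgLib.Blocks.eq_trivChar_of_charKer_eq_top hk)

end CfsgLib.UFour
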