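import Cfsg.Agent.Lib.Recog.UFourSylow.Central
import Cfsg.Agent.Lib.Recog.UFourSylow.Local
import Cfsg.Agent.Lib.Recog.UFourSylow.Consequence
import Cfsg.Agent.Lib.Recog.UFourSylow.Block.Fifteen
import Cfsg.Agent.Lib.InvCentTwoNilp.UnitarySylow.False

/-!
# Simple groups with a Sylow 2-subgroup of the type of `U₃(4)` (owner: helper12)

The principal block and the threshold lemma make `N(Z(S))` strongly embedded; with `O(G) = 1` and
`O^{2'}(G) = G` a group with such a Sylow subgroup is a 2-group or simple.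
-/

set_option autoImplicit false

namespace CfsgLib.Recog.UFourSylow

open Subgroup
open CfsgLib.USylow

universe u

variable {G : Type u} [Group G] [Finite G]

/-- A simple group has no central involution when its Sylow 2-subgroup has this type. -/
theorem no_central_involution [IsSimpleGroup G] {S : Sylow 2 G} (hT : UType ↥(S : Subgroup G) 2) :
    ∀ c ∈ center G, orderOf c ≠ 2 := by
  intro c hc hc2
  rcases IsSimpleGroup.eq_bot_or_eq_top_of_normal (center G) inferInstance with h | h
  · exact CfsgLib.Signalizer.involution_ne_one hc2 (mem_bot.1 (h ▸ hc))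
  · have htop : center ↥(S : Subgroup G) = ⊤ := eq_top_iff.2 fun y _ => mem_center_iff.2 fun z =>
      Subtype.ext (mem_center_iff.1 (h ▸ mem_top _ : (y : G) ∈ center G) (z : G))
    have h4 := hT.card_center
    rw [htop, Subgroup.card_top, hT.card] at h4
    norm_num at h4

/-- The simple groups. -/
theorem unitary_of_simple [IsSimpleGroup G] (S : Sylow 2 G) (hT : UType ↥(S : Subgroup G) 2)
    (hU : CfsgLib.InvCent.UnitarySylow.U34 ↥(S : Subgroup G)) :
    ∃ (F : Type) (_ : Field F) (_ : Fintype F), Fintype.card F = (2 ^ 2) ^ 2 ∧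
      Nonempty (G ≃* Cfsg.PSU 3 F (2 ^ 2)) := by
  haveI : Fact (Nat.Prime 2) := ⟨Nat.prime_two⟩
  haveI := Fintype.ofFinite G
  obtain ⟨a, -, -, -, ha2, -, -⟩ := exists_two_involutions hT le_rfl
  have hO : Cfsg.oddCore G = ⊥ := CfsgLib.Classical.AbSylow.oddCore_eq_bot_simple ha2
  have hc := no_central_involution hT
  have hone := one_class hT hO hc
  have hcl : ∀ z : G, orderOf z = 2 → Closed ↥(centralizer ({z} : Set G)) := fun z hz =>
    closed_centralizer hT hc hz
  rcases CfsgLib.UFour.twoNilp_or_loc hT hone hcl with h | h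
  · let K : CfsgLib.InvCent.UnitarySylow.Ctx S := ⟨h, hU, not_isolated hO hc⟩
    obtain ⟨n, C⟩ := K.exists_Cycle
    exact (K.false_of_cycle C).elim
  refine CfsgLib.UFour.unitary_of_small hT hone (fun t _ ht => hcl t ht) fun t htS ht => ?_
  obtain ⟨M, hM⟩ := CfsgLib.ZStar.exists_isPModular (p := 2) Nat.prime_two
  haveI := hM.2.1.isPrime
  obtain ⟨x, A, f, L⟩ := h t htS ht
  obtain ⟨χ, hχ, -, d, T, hd, hTv, hne, hlt, -⟩ := L.exists_small hM fun χ _ hχ =>
    CfsgLib.UFour.apply_ne_degree_of_simple (CfsgLib.Signalizer.involution_ne_one ht) hχ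
  exact ⟨M, hM, χ, hχ, d, T, hd, hTv, hne, by omega⟩

end CfsgLib.Recog.UFourSylow
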