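import Cfsg.Agent.Lib.Recog.UFourSylow.Central

/-!
# Reduction to simple groups (owner: helper12)

With `O(G) = 1` and no proper normal subgroup of odd index, a group with a Sylow 2-subgroup of the type of `U₃(4)`
is a 2-group or simple: a normal subgroup `N ≠ 1` contains `Z(S)`, so `G = N C(Z(S))`, and an element of `N(S)`
moving the involutions of `Z(S)` fixes only the identity of `S`, so no factor is a 2-group.
-/

set_option autoImplicit false

namespace CfsgLib.Recog.UFourSylow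

open Subgroup
open CfsgLib.USylow
open scoped commutatorElement

universe u

variable {G : Type u} [Group G] [Finite G] {S : Sylow 2 G} (hT : UType ↥(S : Subgroup G) 2)
include hT

/-- An element of `N(S)` without fixed points on `S`. -/
theorem exists_fixfree (hO : Cfsg.oddCore G = ⊥) (hc : ∀ c ∈ center G, orderOf c ≠ 2) :
    ∃ n ∈ normalizer ((S : Subgroup G) : Set G), ∀ x ∈ (S : Subgroup G), n * x * n⁻¹ = x → x = 1 := by
  haveI : Fact (Nat.Prime 2) := ⟨Nat.prime_two⟩
  obtain ⟨t, ht, u, hu, ht2, hu2, htu⟩ := exists_two_involutions hT le_rfl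
  have hcS : ∀ {a : G}, a ∈ Zs S → a ∈ centralizer ((S : Subgroup G) : Set G) := fun ha =>
    mem_centralizer_iff.2 fun s hs => (mem_centralizer_iff.1 (le_centralizer_Zs S hs) _ ha).symm
  obtain ⟨c, hcu⟩ := isConj_iff.1 (one_class hT hO hc t u ht2 hu2)
  obtain ⟨m, hm, hmt⟩ := S.conj_eq_normalizer_conj_of_mem_centralizer t c⁻¹ (hcS ht)
    (by rw [inv_inv, hcu]; exact hcS hu)
  rw [inv_inv, hcu] at hmt
  set n := m⁻¹ with hn
  have hnN : n ∈ normalizer ((S : Subgroup G) : Set G) := inv_mem hm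
  have h1 : n * t * n⁻¹ = u := by rw [hmt, hn]; group
  have ht0 := CfsgLib.Signalizer.involution_ne_one ht2
  have hu0 := CfsgLib.Signalizer.involution_ne_one hu2
  have hmove : ∀ a ∈ Zs S, n * a * n⁻¹ = a → a = 1 := by
    intro a ha hfix
    by_contra ha0
    have hat : a ≠ t := fun e => htu (by rw [← h1, ← e, hfix])
    have hau : a ≠ u := fun e => hat ((MulAut.conj n).injective (by
      show n * a * n⁻¹ = n * t * n⁻¹
      rw [hfix, h1, e]))
    have hnu : n * u * n⁻¹ ∈ Zs S := (mem_normalizer_iff.1 (normalizer_le_Zs hT hnN) u).1 hu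
    have hnu0 : n * u * n⁻¹ ≠ 1 := fun e => hu0 (by rwa [conj_eq_one_iff] at e)
    have h2 : n * u * n⁻¹ = t := by
      rcases eq_of_ne_Zs hT ht hu hnu ht0 hu0 hnu0 htu with e | e | e
      · exact e
      · exact absurd ((MulAut.conj n).injective (show n * t * n⁻¹ = n * u * n⁻¹ by rw [h1, e])) htu
      · rcases eq_of_ne_Zs hT ht hu ha ht0 hu0 ha0 htu with e' | e' | e'
        · exact absurd e' hat
        · exact absurd e' hau
        · exact absurd ((MulAut.conj n).injective
            (show n * u * n⁻¹ = n * a * n⁻¹ by rw [hfix, e, e'])).symm hau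
    have h3 : n * n * t * (n * n)⁻¹ = t := by
      rw [show n * n * t * (n * n)⁻¹ = n * (n * t * n⁻¹) * n⁻¹ by group, h1, h2]
    haveI : ((S : Subgroup G).subgroupOf (normalizer ((S : Subgroup G) : Set G))).Normal :=
      Subgroup.normal_in_normalizer
    set k := ((S : Subgroup G).subgroupOf (normalizer ((S : Subgroup G) : Set G))).index
    have hk : n ^ k ∈ (S : Subgroup G) := mem_subgroupOf.1 (Subgroup.pow_index_mem
      ((S : Subgroup G).subgroupOf (normalizer ((S : Subgroup G) : Set G))) ⟨n, hnN⟩)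
    have hodd : Odd k := Nat.not_even_iff_odd.1 fun he => S.not_dvd_index ((even_iff_two_dvd.1 he).trans
      ⟨_, (Subgroup.relIndex_mul_index (le_normalizer (H := (S : Subgroup G)))).symm⟩)
    obtain ⟨i, hi⟩ := hodd
    have h4 : Commute t ((n * n) ^ i) :=
      (show Commute t (n * n) from (mul_inv_eq_iff_eq_mul.1 h3).symm).pow_right i
    have h5 : Commute t (n ^ k) := mem_centralizer_iff.1 (le_centralizer_Zs S hk) t ht
    rw [hi, pow_succ, pow_mul, pow_two] at h5
    have h6 : Commute t n := by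
      have := h4.inv_right.mul_right h5
      rwa [inv_mul_cancel_left] at this
    exact htu (by rw [← h1, ← h6.eq, mul_inv_cancel_right])
  refine ⟨n, hnN, fun x hx hfix => ?_⟩
  have hsq : x * x = 1 := hmove _ ⟨_, hT.sq_mem ⟨x, hx⟩, rfl⟩ (by
    rw [show n * (x * x) * n⁻¹ = n * x * n⁻¹ * (n * x * n⁻¹) by group, hfix])
  exact hmove x ((mem_Zs hT).2 ⟨hx, hsq⟩) hfix

/-- A 2-group or simple. -/
theorem simple_or_top (hO : Cfsg.oddCore G = ⊥) (hO' : ∀ N : Subgroup G, N.Normal → Odd N.index → N = ⊤) :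
    IsSimpleGroup G ∨ (S : Subgroup G) = ⊤ := by
  haveI : Fact (Nat.Prime 2) := ⟨Nat.prime_two⟩
  have hSodd : ∀ {K : Subgroup G}, (S : Subgroup G) ≤ K → Odd K.index := fun hK =>
    Nat.not_even_iff_odd.1 fun he =>
      S.not_dvd_index ((even_iff_two_dvd.1 he).trans (Subgroup.index_dvd_of_le hK))
  by_cases hc : ∃ c ∈ center G, orderOf c = 2
  · obtain ⟨c, hc, hc2⟩ := hc
    exact Or.inr (hO' _ ((closed_of_central S hT hc hc2).normal_of_core hO S) (hSodd le_rfl))
  push Not at hc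
  refine Or.inl ?_
  obtain ⟨t, ht, -, -, ht2, -, -⟩ := exists_two_involutions hT le_rfl
  haveI : Nontrivial G := ⟨⟨t, 1, CfsgLib.Signalizer.involution_ne_one ht2⟩⟩
  refine ⟨fun N hN => ?_⟩
  by_cases hN1 : N = ⊥
  · exact Or.inl hN1
  refine Or.inr ?_
  haveI := hN
  -- `Z(S) ≤ N`
  have heven : 2 ∣ Nat.card N := by
    by_contra h
    exact hN1 (le_bot_iff.1 (hO ▸ CfsgLib.ZStar.le_oddCore hN (Nat.not_even_iff_odd.1 fun he =>
      h (even_iff_two_dvd.1 he))))
  obtain ⟨⟨a, haN⟩, ha⟩ := exists_prime_orderOf_dvd_card' 2 heven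
  rw [Subgroup.orderOf_mk] at ha
  have hZN : Zs S ≤ N := fun z hz => by
    by_cases hz1 : z = 1
    · exact hz1 ▸ one_mem N
    obtain ⟨g, hg⟩ := isConj_iff.1 (one_class hT hO hc a z ha
      (orderOf_eq_prime (by rw [pow_two]; exact ((mem_Zs hT).1 hz).2) hz1))
    exact hg ▸ hN.conj_mem a haN g
  -- `G = N · N(Z(S))`
  have hFr : N ⊔ normalizer (Zs S : Set G) = ⊤ := by
    obtain ⟨Q, hQ⟩ := (((S.2.to_le (inf_le_left : (S : Subgroup G) ⊓ N ≤ S)).comap_of_injective
      N.subtype N.subtype_injective)).exists_le_sylow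
    have hQS : (Q : Subgroup N).map N.subtype = (S : Subgroup G) ⊓ N := by
      refine le_antisymm ?_ fun x hx => ⟨⟨x, hx.2⟩, hQ (show x ∈ (S : Subgroup G) ⊓ N from hx), rfl⟩
      obtain ⟨g, hg⟩ := exists_conj_into_top S (Q.2.map N.subtype)
      have hle : ((Q : Subgroup N).map N.subtype).map (MulAut.conj g).toMonoidHom ≤ (S : Subgroup G) ⊓ N := by
        rintro _ ⟨y, hy, rfl⟩
        exact ⟨hg y hy, hN.conj_mem y (map_subtype_le _ hy) g⟩
      have hge : (S : Subgroup G) ⊓ N ≤ (Q : Subgroup N).map N.subtype := fun x hx =>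
        ⟨⟨x, hx.2⟩, hQ (show x ∈ (S : Subgroup G) ⊓ N from hx), rfl⟩
      exact (Subgroup.eq_of_le_of_card_ge hge (by
        refine le_trans (le_of_eq ?_) (Subgroup.card_le_of_le hle)
        exact (card_map_of_injective (MulAut.conj g).injective).symm)).ge
    refine top_le_iff.1 ((Sylow.normalizer_sup_eq_top Q).ge.trans (sup_le ?_ le_sup_left))
    refine (fun g hg => mem_sup_right (mem_normalizer_Zs hT fun e he => ?_))
    have : g * e * g⁻¹ ∈ (Q : Subgroup N).map N.subtype :=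
      (mem_normalizer_iff.1 hg e).1 (hQS.ge ⟨Zs_le S he, hZN he⟩)
    exact (hQS.le this).1
  set C := centralizer (Zs S : Set G) with hC
  have hSC : (S : Subgroup G) ≤ C := le_centralizer_Zs S
  have hnormal : ∀ {H : Subgroup G}, N ≤ H → normalizer (Zs S : Set G) ≤ normalizer (H : Set G) → H.Normal :=
    fun {H} hNH hle => normalizer_eq_top_iff.1 (top_le_iff.1 (hFr.ge.trans
      (sup_le (hNH.trans le_normalizer) hle)))
  have hNn : ∀ g, g ∈ normalizer (N : Set G) := fun g => by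
    rw [normalizer_eq_top_iff.2 hN]; exact mem_top g
  have hNC : N ⊔ C = ⊤ := by
    refine hO' _ (hnormal le_sup_left fun g hg => ?_) (hSodd (hSC.trans le_sup_right))
    rw [mem_normalizer_iff_map_conj_eq, Subgroup.map_sup, mem_normalizer_iff_map_conj_eq.1 (hNn g)]
    congr 1
    refine Subgroup.eq_of_le_of_card_ge ?_ (card_map_of_injective (MulAut.conj g).injective).ge
    rintro _ ⟨x, hx, rfl⟩
    refine mem_centralizer_iff.2 fun z hz => ?_
    have hz' : g⁻¹ * z * g ∈ Zs S := by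
      have := (mem_normalizer_iff.1 (inv_mem hg) z).1 hz
      rwa [inv_inv] at this
    show z * (g * x * g⁻¹) = g * x * g⁻¹ * z
    calc z * (g * x * g⁻¹) = g * ((g⁻¹ * z * g) * x) * g⁻¹ := by group
      _ = g * (x * (g⁻¹ * z * g)) * g⁻¹ := by rw [mem_centralizer_iff.1 hx _ hz']
      _ = g * x * g⁻¹ * z := by group
  have hCcl : Closed C := closed_of_central (S.subtype hSC) (uType_subtype hT hSC)
    (c := ⟨t, hSC (Zs_le S ht)⟩)
    (mem_center_iff.2 fun x => Subtype.ext (mem_centralizer_iff.1 x.2 t ht).symm)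
    (by rw [Subgroup.orderOf_mk]; exact ht2)
  set O := (Cfsg.oddCore C).map C.subtype with hOdef
  have hCO : C ≤ normalizer (O : Set G) := fun g hg => le_normalizer_map C.subtype
    ⟨⟨g, hg⟩, by rw [normalizer_eq_top_iff.2 (inferInstance : (Cfsg.oddCore C).Normal)]; exact mem_top _, rfl⟩
  set K := N ⊔ O with hK
  have hKn : K.Normal := normalizer_eq_top_iff.1 (top_le_iff.1 (hNC.ge.trans (sup_le
    ((le_sup_left : N ≤ K).trans le_normalizer) fun g hg => by
      rw [mem_normalizer_iff_map_conj_eq, hK, Subgroup.map_sup, mem_normalizer_iff_map_conj_eq.1 (hNn g),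
        mem_normalizer_iff_map_conj_eq.1 (hCO hg)])))
  haveI := hKn
  -- `G = K N_C(S)`
  have hCle : C ≤ K ⊔ (normalizer ((S : Subgroup G) : Set G) ⊓ C) := fun x hx => by
    have h := Subgroup.mem_map_of_mem C.subtype
      ((hCcl (S.subtype hSC)).ge (mem_top (⟨x, hx⟩ : C)))
    rw [Subgroup.map_sup] at h
    refine sup_le_sup (le_sup_right : O ≤ K) (le_inf ?_ (map_subtype_le _)) h
    refine (Subgroup.le_normalizer_map _).trans ?_
    rw [Sylow.coe_subtype, subgroupOf_map_subtype, inf_eq_left.2 hSC]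
  -- `K S` is normal of odd index
  have hKS : K ⊔ (S : Subgroup G) = ⊤ := by
    refine hO' _ (normalizer_eq_top_iff.1 (top_le_iff.1 (hNC.ge.trans (sup_le
      ((le_sup_left.trans le_sup_left : N ≤ K ⊔ (S : Subgroup G)).trans le_normalizer)
      (hCle.trans (sup_le (le_sup_left.trans le_normalizer) fun g hg => ?_)))))) (hSodd le_sup_right)
    rw [mem_normalizer_iff_map_conj_eq, Subgroup.map_sup,
      mem_normalizer_iff_map_conj_eq.1 (show g ∈ normalizer (K : Set G) by
        rw [normalizer_eq_top_iff.2 hKn]; exact mem_top g), mem_normalizer_iff_map_conj_eq.1 hg.1]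
  -- `G / K` is abelian
  set π := QuotientGroup.mk' K
  have hab : ∀ p q : G ⧸ K, p * q = q * p := by
    have hrep : ∀ q : G ⧸ K, ∃ s ∈ (S : Subgroup G), π s = q := fun q => by
      obtain ⟨g, rfl⟩ := QuotientGroup.mk'_surjective K q
      obtain ⟨s, hs, k, hk, rfl⟩ := (CfsgLib.Core.mem_sup_iff_mul (H := (S : Subgroup G)) (N := K) (fun s _ => by
        rw [normalizer_eq_top_iff.2 hKn]; exact mem_top s)).1 ((sup_comm K (S : Subgroup G)).le (hKS.ge (mem_top g)))
      exact ⟨s, hs, by rw [map_mul, show π k = 1 from (QuotientGroup.eq_one_iff k).2 hk, mul_one]⟩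
    intro p q
    obtain ⟨x, hx, rfl⟩ := hrep p
    obtain ⟨y, hy, rfl⟩ := hrep q
    have hxy : ⁅x, y⁆ ∈ K := mem_sup_left (hZN ⟨_, hT.comm_mem ⟨x, hx⟩ ⟨y, hy⟩, rfl⟩)
    rw [← commutatorElement_eq_one_iff_mul_comm, ← map_commutatorElement]
    exact (QuotientGroup.eq_one_iff _).2 hxy
  -- `S ≤ K`
  obtain ⟨n, hn, hfix⟩ := exists_fixfree hT hO hc
  have hSK : (S : Subgroup G) ≤ K := by
    let φ : ↥(S : Subgroup G) → ↥(S : Subgroup G) := fun s =>
      ⟨(s : G)⁻¹ * (n * s * n⁻¹), mul_mem (inv_mem s.2) ((mem_normalizer_iff.1 hn _).1 s.2)⟩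
    have hφ : Function.Injective φ := fun a b e => by
      have e' : (a : G)⁻¹ * (n * a * n⁻¹) = (b : G)⁻¹ * (n * b * n⁻¹) := congrArg Subtype.val e
      have h1 : n * ((b : G) * (a : G)⁻¹)⁻¹ * n⁻¹ = ((b : G) * (a : G)⁻¹)⁻¹ := by
        rw [mul_inv_rev, inv_inv]
        calc n * ((a : G) * (b : G)⁻¹) * n⁻¹
            = (a : G) * ((a : G)⁻¹ * (n * a * n⁻¹)) * (n * b * n⁻¹)⁻¹ := by group
          _ = (a : G) * ((b : G)⁻¹ * (n * b * n⁻¹)) * (n * b * n⁻¹)⁻¹ := by rw [e']
          _ = (a : G) * (b : G)⁻¹ := by group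
      have h2 := hfix _ (inv_mem (mul_mem b.2 (inv_mem a.2))) h1
      rw [inv_eq_one, mul_inv_eq_one] at h2
      exact (Subtype.ext h2).symm
    intro s hs
    obtain ⟨r, hr⟩ := (Finite.injective_iff_surjective.1 hφ) (⟨s, hs⟩ : (S : Subgroup G))
    have e : (r : G)⁻¹ * (n * r * n⁻¹) = s := congrArg Subtype.val hr
    refine (QuotientGroup.eq_one_iff s).1 ?_
    show π s = 1
    rw [← e]
    simp only [map_mul, map_inv]
    rw [hab (π n) (π r), mul_inv_cancel_right, inv_mul_cancel]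
  -- the index of `N` is odd
  have hKtop : K = ⊤ := by rw [← hKS, sup_eq_left.2 hSK]
  refine hO' N hN ?_
  have hmap : O.map (QuotientGroup.mk' N) = ⊤ := by
    refine top_le_iff.1 fun q _ => ?_
    obtain ⟨g, rfl⟩ := QuotientGroup.mk'_surjective N q
    obtain ⟨b, hb, a, ha, rfl⟩ := (CfsgLib.Core.mem_sup_iff_mul (H := O) (N := N) (fun b _ => hNn b)).1
      ((sup_comm N O).le (hKtop.ge (mem_top g)))
    exact ⟨b, hb, by rw [map_mul, show QuotientGroup.mk' N a = 1 from (QuotientGroup.eq_one_iff a).2 ha,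
      mul_one]⟩
  have hOodd : Odd (Nat.card O) := by
    rw [hOdef, card_map_of_injective C.subtype_injective]
    exact CfsgLib.ZStar.odd_card_oddCore _
  rw [N.index_eq_card, ← Subgroup.card_top, ← hmap]
  exact hOodd.of_dvd_nat (card_map_dvd _ _)

end CfsgLib.Recog.UFourSylow
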