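import Cfsg.Agent.Lib.Recog.UFourSylow.Main
import Cfsg.Agent.Lib.Recog.UFourSylow.Reduce

/-!
# Groups with a Sylow 2-subgroup isomorphic to one of `PSU₃(4)` (owner: helper12)
-/

set_option autoImplicit false

namespace CfsgLib.Recog.UFourSylow

open Subgroup
open CfsgLib.USylow

universe u v

variable {G : Type u} [Group G] [Finite G] {F : Type v} [Field F] [Fintype F]

/-- A simple group is `PSU₃(4)`. -/
theorem equiv_of_simple [IsSimpleGroup G] (S : Sylow 2 G) (hF : Fintype.card F = 16)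
    (P : Sylow 2 (Cfsg.PSU 3 F 4)) (e : (S : Subgroup G) ≃* (P : Subgroup (Cfsg.PSU 3 F 4))) :
    Nonempty (G ≃* Cfsg.PSU 3 F 4) := by
  have hF' : Fintype.card F = (2 ^ 2) ^ 2 := by rw [hF]; norm_num
  have hT : UType ↥(S : Subgroup G) 2 := (uType_psu (n := 2) one_le_two hF' P).of_equiv e
  obtain ⟨E, i1, i2, hE, ⟨f⟩⟩ :=
    unitary_of_simple S hT ((CfsgLib.InvCent.UnitarySylow.u34_sylow hF P).of_equiv e)
  let a : E ≃+* F := FiniteField.ringEquivOfCardEq (hE.trans hF'.symm)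
  exact ⟨f.trans (QuotientGroup.congr _ _ (CfsgLib.Classical.UFourTwo.suMap a)
    (CfsgLib.Classical.Herm.map_center_of_equiv (CfsgLib.Classical.UFourTwo.suMap a)))⟩

/-- With trivial odd core and no proper normal subgroup of odd index: `PSU₃(4)` or a 2-group. -/
theorem equiv_or_top (S : Sylow 2 G) (hF : Fintype.card F = 16) (P : Sylow 2 (Cfsg.PSU 3 F 4))
    (e : (S : Subgroup G) ≃* (P : Subgroup (Cfsg.PSU 3 F 4))) (hO : Cfsg.oddCore G = ⊥)
    (hO' : ∀ N : Subgroup G, N.Normal → Odd N.index → N = ⊤) :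
    Nonempty (G ≃* Cfsg.PSU 3 F 4) ∨ (S : Subgroup G) = ⊤ := by
  have hF' : Fintype.card F = (2 ^ 2) ^ 2 := by rw [hF]; norm_num
  have hT : UType ↥(S : Subgroup G) 2 := (uType_psu (n := 2) one_le_two hF' P).of_equiv e
  rcases simple_or_top hT hO hO' with h | h
  · haveI := h
    exact Or.inl (equiv_of_simple S hF P e)
  · exact Or.inr h

end CfsgLib.Recog.UFourSylow
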