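import Cfsg.Agent.Lib.Recog.USylow.Main
import Cfsg.Agent.Lib.ZStar.Main

/-!
# A central involution, and one class of involutions (owner: helper12)

With Sylow 2-subgroups of the type of `U₃(4)`: a central involution makes the group `Closed`; otherwise, with
trivial odd core, there is one class of involutions and every involution centraliser is `Closed`.
-/

set_option autoImplicit false

namespace CfsgLib.Recog.UFourSylow

open Subgroup
open CfsgLib.USylow

universe u

/-- The Sylow subgroup of a subgroup containing `S` has the same type. -/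
theorem uType_subtype {G : Type u} [Group G] [Finite G] {n : ℕ} {S : Sylow 2 G}
    (hT : UType ↥(S : Subgroup G) n) {K : Subgroup G} (hSK : (S : Subgroup G) ≤ K) :
    UType ↥((S.subtype hSK : Sylow 2 K) : Subgroup K) n :=
  hT.of_equiv (Subgroup.subgroupOfEquivOfLe hSK)

theorem closed_of_central_aux : ∀ (k : ℕ) (K : Type u) [Group K] [Finite K], Nat.card K = k →
    ∀ S : Sylow 2 K, UType ↥(S : Subgroup K) 2 → ∀ c ∈ center K, orderOf c = 2 → Closed K := by
  intro k
  induction k using Nat.strong_induction_on with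
  | _ k ih =>
  intro K _ _ hk S hT c hc hc2
  haveI : Fact (Nat.Prime 2) := ⟨Nat.prime_two⟩
  by_cases hO : Cfsg.oddCore K = ⊥
  · refine closed_of_normal S ?_
    rw [hO, bot_sup_eq]
    refine normal_of_central hT CfsgLib.Bender.benderGen.{u} le_rfl hO hc hc2 fun L hL hSL hcL => ?_
    have hlt : Nat.card L < k := hk ▸ lt_of_le_of_ne (Subgroup.card_le_card_group L)
      fun e => hL (Subgroup.card_eq_iff_eq_top L |>.1 e)
    exact ih _ hlt L rfl (S.subtype hSL) (uType_subtype hT hSL) ⟨c, hcL⟩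
      (mem_center_iff.2 fun x => Subtype.ext (mem_center_iff.1 hc x)) (by rw [Subgroup.orderOf_mk]; exact hc2)
  have hlt : Nat.card (K ⧸ Cfsg.oddCore K) < k := by
    subst hk
    rw [Subgroup.card_eq_card_quotient_mul_card_subgroup (Cfsg.oddCore K)]
    exact (Nat.lt_mul_iff_one_lt_right Nat.card_pos).2 (Subgroup.one_lt_card_iff_ne_bot _ |>.2 hO)
  set π := QuotientGroup.mk' (Cfsg.oddCore K)
  have hπ : Function.Surjective π := QuotientGroup.mk'_surjective _
  let S' : Sylow 2 (K ⧸ Cfsg.oddCore K) := S.mapSurjective hπ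
  have hker : ∀ a ∈ (S : Subgroup K), π a = 1 → a = 1 := by
    intro a ha h1
    obtain ⟨j, hj⟩ := S.2.exists_card_eq
    have hbot : Cfsg.oddCore K ⊓ (S : Subgroup K) = ⊥ := inf_eq_bot_of_coprime (by
      rw [hj]; exact (CfsgLib.ZStar.odd_card_oddCore K).coprime_two_right.pow_right j)
    have hmem : a ∈ Cfsg.oddCore K ⊓ (S : Subgroup K) := ⟨(QuotientGroup.eq_one_iff _).1 h1, ha⟩
    rwa [hbot] at hmem
  have hinj : Function.Injective (π.comp (S : Subgroup K).subtype) := by
    rw [injective_iff_map_eq_one]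
    exact fun a ha => Subtype.ext (hker a a.2 ha)
  have e : ↥(S' : Subgroup (K ⧸ Cfsg.oddCore K)) ≃* ↥(S : Subgroup K) :=
    ((MonoidHom.ofInjective hinj).trans (MulEquiv.subgroupCongr (by
      rw [MonoidHom.range_comp, Subgroup.range_subtype]; rfl))).symm
  have hc1 : c ∈ (S : Subgroup K) := by
    obtain ⟨g, hg⟩ := exists_conj_into_top S (isPGroup_of_involution hc2)
    have := hg c (mem_zpowers c)
    rwa [mem_center_iff.1 hc g, mul_inv_cancel_right] at this
  refine closed_of_quotient S ((ih _ hlt _ rfl S' (hT.of_equiv e) (π c) ?_ ?_).normal_of_core oddCore_quot S')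
  · refine mem_center_iff.2 fun q => ?_
    obtain ⟨g, rfl⟩ := hπ q
    rw [← map_mul, ← map_mul, mem_center_iff.1 hc g]
  · exact orderOf_eq_prime (by rw [← map_pow, pow_two, CfsgLib.Signalizer.involution_sq hc2, map_one])
      fun h1 => CfsgLib.Signalizer.involution_ne_one hc2 (hker c hc1 h1)

/-- A central involution makes the group `Closed`. -/
theorem closed_of_central {K : Type u} [Group K] [Finite K] (S : Sylow 2 K)
    (hT : UType ↥(S : Subgroup K) 2) {c : K} (hc : c ∈ center K) (hc2 : orderOf c = 2) : Closed K :=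
  closed_of_central_aux _ K rfl S hT c hc hc2

section OneClass

variable {G : Type u} [Group G] [Finite G] {S : Sylow 2 G}

/-- No involution is isolated. -/
theorem not_isolated (hO : Cfsg.oddCore G = ⊥) (hz : ∀ c ∈ center G, orderOf c ≠ 2) (z : G) :
    ¬ Cfsg.IsIsolatedInvolution z := fun h => by
  refine hz z (mem_center_iff.2 fun g => ?_) h.1
  have h1 := CfsgLib.ZStar.mem_oddCore_of_isolated h g
  rw [hO, mem_bot, mul_inv_eq_one, mul_inv_eq_iff_eq_mul] at h1
  exact h1.symm

variable (hT : UType ↥(S : Subgroup G) 2)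
include hT

/-- Every involution is conjugate into the centre of `S`. -/
theorem exists_conj_Zs {z : G} (hz : orderOf z = 2) : ∃ g, g * z * g⁻¹ ∈ Zs S := by
  obtain ⟨g, hg⟩ := exists_conj_into_top S (isPGroup_of_involution hz)
  exact ⟨g, (mem_Zs hT).2 ⟨hg z (mem_zpowers z),
    CfsgLib.Signalizer.involution_sq ((CfsgLib.Signalizer.orderOf_conj g z).trans hz)⟩⟩

/-- Three involutions of `Z(S)`. -/
theorem eq_of_ne_Zs {a b d : G} (ha : a ∈ Zs S) (hb : b ∈ Zs S) (hd : d ∈ Zs S) (ha1 : a ≠ 1) (hb1 : b ≠ 1)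
    (hd1 : d ≠ 1) (hab : a ≠ b) : d = a ∨ d = b ∨ d = a * b := by
  classical
  by_contra hcon
  push Not at hcon
  have := Fintype.ofFinite (Zs S)
  have h6 := Finset.card_le_univ ({1, ⟨a, ha⟩, ⟨b, hb⟩, ⟨a * b, mul_mem ha hb⟩, ⟨d, hd⟩} : Finset (Zs S))
  have hsq := ((mem_Zs hT).1 hb).2
  have hab1 : a * b ≠ 1 := fun e => hab (by rw [← mul_right_cancel_iff (a := b), e, hsq])
  have hab2 : a * b ≠ a := fun e => hb1 (mul_eq_left.1 e)
  have hab3 : a * b ≠ b := fun e => ha1 (mul_eq_right.1 e)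
  rw [← Nat.card_eq_fintype_card, card_Zs hT] at h6
  simp [Subtype.ext_iff, ha1.symm, hb1.symm, hd1.symm, hab, hab1.symm, hab2.symm, hab3.symm,
    hcon.1.symm, hcon.2.1.symm, hcon.2.2.symm] at h6

/-- An involution of `Z(S)` has a second conjugate there. -/
theorem exists_conj_ne (hO : Cfsg.oddCore G = ⊥) (hc : ∀ c ∈ center G, orderOf c ≠ 2) {z : G}
    (hz : orderOf z = 2) : ∃ z' ∈ Zs S, z' ≠ z ∧ IsConj z z' := by
  haveI : Fact (Nat.Prime 2) := ⟨Nat.prime_two⟩
  have hni := not_isolated hO hc z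
  unfold Cfsg.IsIsolatedInvolution at hni
  push Not at hni
  obtain ⟨g, hg, hne⟩ := hni hz
  set x := g * z * g⁻¹ with hxdef
  have hx : orderOf x = 2 := (CfsgLib.Signalizer.orderOf_conj g z).trans hz
  have hP : IsPGroup 2 ↥(zpowers z ⊔ zpowers x) :=
    IsPGroup.to_sup_of_normal_left' (isPGroup_of_involution hz) (isPGroup_of_involution hx)
      (zpowers_le.2 (centralizer_le_normalizer _ (by
        rw [mem_centralizer_iff]
        intro y hy
        obtain ⟨i, rfl⟩ := mem_zpowers_iff.1 hy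
        exact (hg.zpow_left i).eq)))
  obtain ⟨h, hh⟩ := exists_conj_into_top S hP
  have hmem : ∀ w ∈ zpowers z ⊔ zpowers x, orderOf w = 2 → h * w * h⁻¹ ∈ Zs S := fun w hw hw2 =>
    (mem_Zs hT).2 ⟨hh w hw,
      CfsgLib.Signalizer.involution_sq ((CfsgLib.Signalizer.orderOf_conj h w).trans hw2)⟩
  by_cases e : h * z * h⁻¹ = z
  · refine ⟨h * x * h⁻¹, hmem x (mem_sup_right (mem_zpowers x)) hx, fun e' => hne ?_, ?_⟩
    · exact (MulAut.conj h).injective (e'.trans e.symm)
    · exact isConj_iff.2 ⟨h * g, by rw [hxdef]; group⟩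
  · exact ⟨h * z * h⁻¹, hmem z (mem_sup_left (mem_zpowers z)) hz, e, isConj_iff.2 ⟨h, rfl⟩⟩

/-- One class of involutions. -/
theorem one_class (hO : Cfsg.oddCore G = ⊥) (hc : ∀ c ∈ center G, orderOf c ≠ 2) :
    ∀ y z : G, orderOf y = 2 → orderOf z = 2 → IsConj y z := by
  have key : ∀ y ∈ Zs S, orderOf y = 2 → ∀ z ∈ Zs S, orderOf z = 2 → IsConj y z := by
    intro y hy hy2 z hz hz2
    have h1 : ∀ {w : G}, orderOf w = 2 → w ≠ 1 := fun h => CfsgLib.Signalizer.involution_ne_one h
    have h2 : ∀ {v w : G}, IsConj v w → orderOf v = 2 → orderOf w = 2 := fun hvw h => by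
      obtain ⟨c, rfl⟩ := isConj_iff.1 hvw
      rw [CfsgLib.Signalizer.orderOf_conj, h]
    obtain ⟨y', hy', hyne, hyc⟩ := exists_conj_ne hT hO hc hy2
    have hy'2 := h2 hyc hy2
    rcases eq_of_ne_Zs hT hy hy' hz (h1 hy2) (h1 hy'2) (h1 hz2) (Ne.symm hyne) with e | e | e
    · rw [e]
    · rw [e]; exact hyc
    · obtain ⟨z', hz', hzne, hzc⟩ := exists_conj_ne hT hO hc hz2
      rcases eq_of_ne_Zs hT hy hy' hz' (h1 hy2) (h1 hy'2) (h1 (h2 hzc hz2)) (Ne.symm hyne) with e' | e' | e'
      · exact (e' ▸ hzc).symm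
      · exact hyc.trans (e' ▸ hzc).symm
      · exact absurd (e'.trans e.symm) hzne
  intro y z hy hz
  obtain ⟨g, hg⟩ := exists_conj_Zs hT hy
  obtain ⟨h, hh⟩ := exists_conj_Zs hT hz
  exact (isConj_iff.2 ⟨g, rfl⟩ : IsConj y _).trans ((key _ hg ((CfsgLib.Signalizer.orderOf_conj g y).trans hy)
    _ hh ((CfsgLib.Signalizer.orderOf_conj h z).trans hz)).trans
      (isConj_iff.2 ⟨h, rfl⟩ : IsConj z _).symm)

/-- Every involution centraliser is `Closed`. -/
theorem closed_centralizer (hz : ∀ c ∈ center G, orderOf c ≠ 2) {t : G} (ht : orderOf t = 2) :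
    Closed ↥(centralizer ({t} : Set G)) := by
  obtain ⟨g, hg⟩ := exists_conj_Zs hT ht
  set s := g * t * g⁻¹
  have hle : (S : Subgroup G) ≤ centralizer ({s} : Set G) := fun a ha =>
    mem_centralizer_singleton_iff.2 (mem_centralizer_iff.1 (le_centralizer_Zs S ha) s hg).symm
  let e : centralizer ({s} : Set G) ≃* centralizer ({t} : Set G) := {
    toFun := fun x => ⟨g⁻¹ * x * g, mem_centralizer_singleton_iff.2 (by
      have h := mem_centralizer_singleton_iff.1 x.2
      calc g⁻¹ * (x : G) * g * t = g⁻¹ * ((x : G) * s) * g := by simp only [s]; group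
        _ = g⁻¹ * (s * (x : G)) * g := by rw [h]
        _ = t * (g⁻¹ * (x : G) * g) := by simp only [s]; group)⟩
    invFun := fun x => ⟨g * x * g⁻¹, mem_centralizer_singleton_iff.2 (by
      have h := mem_centralizer_singleton_iff.1 x.2
      calc g * (x : G) * g⁻¹ * s = g * ((x : G) * t) * g⁻¹ := by simp only [s]; group
        _ = g * (t * (x : G)) * g⁻¹ := by rw [h]
        _ = s * (g * (x : G) * g⁻¹) := by simp only [s]; group)⟩
    left_inv := fun x => Subtype.ext (show g * (g⁻¹ * (x : G) * g) * g⁻¹ = x by group)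
    right_inv := fun x => Subtype.ext (show g⁻¹ * (g * (x : G) * g⁻¹) * g = x by group)
    map_mul' := fun x y => Subtype.ext (show g⁻¹ * ((x : G) * y) * g =
      g⁻¹ * (x : G) * g * (g⁻¹ * (y : G) * g) by group) }
  let Q : Sylow 2 (centralizer ({s} : Set G)) := S.subtype hle
  haveI : Fact (Nat.Prime 2) := ⟨Nat.prime_two⟩
  let R : Sylow 2 (centralizer ({t} : Set G)) := Q.mapSurjective (f := e.toMonoidHom) e.surjective
  refine closed_of_central R ((uType_subtype hT hle).of_equiv
    ((Q : Subgroup (centralizer ({s} : Set G))).equivMapOfInjective e.toMonoidHom e.injective).symm)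
    (c := ⟨t, mem_centralizer_singleton_iff.2 rfl⟩)
    (mem_center_iff.2 fun x => Subtype.ext (mem_centralizer_singleton_iff.1 x.2))
    (by rw [Subgroup.orderOf_mk]; exact ht)

end OneClass

end CfsgLib.Recog.UFourSylow
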