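import Cfsg.Agent.Lib.Recog.USylow.Structure
import Mathlib.Combinatorics.Enumerative.DoubleCounting

/-!
Owner: helper8.  `C(t) ⧸ O(C(t))` for a Sylow 2-subgroup of the type of `U₃(4)`, as an abstract group `Q` with a
normal self-centralising Sylow 2-subgroup `T` and a central involution `τ`.  The twenty square roots of `τ` in `T`
are permuted freely by every subgroup of odd order, so `Q ⧸ T` has order one or five.
-/

set_option autoImplicit false
set_option linter.unusedSectionVars false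

namespace CfsgLib.UFour

open Subgroup
open CfsgLib.USylow

universe u

variable {Q : Type u} [Group Q]

/-- A group acting freely by conjugation on a set has order dividing the size of the set. -/
theorem card_dvd_of_free (H : Subgroup Q) (X : Set Q) (hmem : ∀ h ∈ H, ∀ y ∈ X, h * y * h⁻¹ ∈ X)
    (hfree : ∀ h ∈ H, ∀ y ∈ X, h * y * h⁻¹ = y → h = 1) : Nat.card H ∣ Nat.card X := by
  let _ : MulAction H X :=
    { smul := fun h y => ⟨h * y * (h : Q)⁻¹, hmem _ h.2 _ y.2⟩
      one_smul := fun y => Subtype.ext (by show (1 : Q) * y * (1 : Q)⁻¹ = y; group)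
      mul_smul := fun a b y => Subtype.ext (by
        show (a * b : Q) * y * (a * b : Q)⁻¹ = a * (b * y * (b : Q)⁻¹) * (a : Q)⁻¹
        group) }
  have hstab : ∀ y : X, MulAction.stabilizer H y = ⊥ := fun y => (eq_bot_iff_forall _).2 fun h hh =>
    Subtype.ext (hfree _ h.2 _ y.2 (congrArg Subtype.val hh))
  rw [Nat.card_congr (MulAction.selfEquivOrbitsQuotientProd hstab), Nat.card_prod]
  exact Dvd.intro_left _ rfl

/-- The abstract quotient. -/
structure Ext (T : Subgroup Q) (τ : Q) : Prop where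
  normal : T.Normal
  odd_index : Odd T.index
  shape : UType ↥T 2
  cent : centralizer (T : Set Q) ≤ T
  mem_τ : τ ∈ T
  sq_τ : τ * τ = 1
  ne_τ : τ ≠ 1
  central : ∀ q : Q, q * τ = τ * q

/-- The centre of `T`. -/
def zT (T : Subgroup Q) : Subgroup Q := (center T).map T.subtype

/-- The abelian subgroup of order 16 attached to a non-central element. -/
def aT (T : Subgroup Q) (y : Q) : Subgroup Q := T ⊓ centralizer ({y} : Set Q)

namespace Ext

variable {T : Subgroup Q} {τ : Q} (X : Ext T τ)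
include X

theorem mem_zT {c : Q} : c ∈ zT T ↔ c ∈ T ∧ c * c = 1 := by
  constructor
  · rintro ⟨z, hz, rfl⟩
    exact ⟨z.2, congrArg Subtype.val ((X.shape.center_iff z).1 hz)⟩
  · rintro ⟨hc, h2⟩
    exact ⟨⟨c, hc⟩, (X.shape.center_iff _).2 (Subtype.ext h2), rfl⟩

theorem card_zT : Nat.card (zT T) = 4 := by
  rw [zT, card_map_of_injective T.subtype_injective, X.shape.card_center]
  norm_num

theorem zT_comm {c s : Q} (hc : c ∈ zT T) (hs : s ∈ T) : s * c = c * s := by
  obtain ⟨z, hz, rfl⟩ := hc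
  exact congrArg Subtype.val (mem_center_iff.1 hz ⟨s, hs⟩)

theorem zT_sq {s : Q} (hs : s ∈ T) : s * s ∈ zT T :=
  ⟨⟨s, hs⟩ * ⟨s, hs⟩, X.shape.sq_mem _, rfl⟩

theorem τ_mem : τ ∈ zT T := X.mem_zT.2 ⟨X.mem_τ, X.sq_τ⟩

theorem mem_aT {y z : Q} : z ∈ aT T y ↔ z ∈ T ∧ z * y = y * z := by
  rw [aT, mem_inf, mem_centralizer_singleton_iff]

theorem zT_le_aT {y : Q} (hy : y ∈ T) : zT T ≤ aT T y := fun _ hc =>
  X.mem_aT.2 ⟨(X.mem_zT.1 hc).1, (X.zT_comm hc hy).symm⟩

theorem aT_comm {y : Q} (hy : y ∈ T) (hny : y * y ≠ 1) {a b : Q} (ha : a ∈ aT T y) (hb : b ∈ aT T y) :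
    a * b = b * a := by
  obtain ⟨ha, hay⟩ := X.mem_aT.1 ha
  obtain ⟨hb, hby⟩ := X.mem_aT.1 hb
  exact congrArg Subtype.val (X.shape.cen_comm ⟨y, hy⟩
    (fun h => hny (congrArg Subtype.val ((X.shape.center_iff _).1 h))) ⟨a, ha⟩ ⟨b, hb⟩
    (Subtype.ext hay) (Subtype.ext hby)).eq

/-- Every central element is the square of an element of `aT T y`. -/
theorem exists_sqrt {y : Q} (hy : y ∈ T) (hny : y * y ≠ 1) {c : Q} (hc : c ∈ zT T) :
    ∃ z ∈ aT T y, z * z = c := by
  obtain ⟨z0, hz0, rfl⟩ := hc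
  obtain ⟨z, hzy, hzz⟩ := X.shape.cen_root ⟨y, hy⟩
    (fun h => hny (congrArg Subtype.val ((X.shape.center_iff _).1 h))) z0 hz0
  exact ⟨z, X.mem_aT.2 ⟨z.2, congrArg Subtype.val hzy.eq⟩, congrArg Subtype.val hzz⟩

theorem card_aT {y : Q} (hy : y ∈ T) (hny : y * y ≠ 1) : Nat.card (aT T y) = 16 := by
  let φ : ↥(aT T y) →* ↥(aT T y) :=
    { toFun := fun z => z * z
      map_one' := one_mul 1
      map_mul' := fun a b => by
        have h : b * a = a * b := Subtype.ext (X.aT_comm hy hny b.2 a.2)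
        calc a * b * (a * b) = a * (b * a) * b := by group
          _ = a * (a * b) * b := by rw [h]
          _ = a * a * (b * b) := by group }
  have hker : φ.ker = (zT T).subgroupOf (aT T y) := Subgroup.ext fun z => by
    rw [MonoidHom.mem_ker, mem_subgroupOf, X.mem_zT]
    exact ⟨fun h => ⟨(X.mem_aT.1 z.2).1, congrArg Subtype.val h⟩, fun h => Subtype.ext h.2⟩
  have hrange : φ.range = (zT T).subgroupOf (aT T y) := Subgroup.ext fun z => by
    rw [MonoidHom.mem_range, mem_subgroupOf]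
    constructor
    · rintro ⟨w, rfl⟩
      exact X.zT_sq (X.mem_aT.1 w.2).1
    · intro hz
      obtain ⟨w, hw, hww⟩ := X.exists_sqrt hy hny hz
      exact ⟨⟨w, hw⟩, Subtype.ext hww⟩
  have h4 : Nat.card ((zT T).subgroupOf (aT T y)) = 4 := by
    rw [Nat.card_congr (subgroupOfEquivOfLe (X.zT_le_aT hy)).toEquiv, X.card_zT]
  rw [← φ.ker.card_mul_index, index_ker, hker, hrange, h4]

theorem aT_eq {y z : Q} (hy : y ∈ T) (hny : y * y ≠ 1) (hz : z ∈ aT T y) (hnz : z * z ≠ 1) :
    aT T z = aT T y := by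
  obtain ⟨hzT, hzy⟩ := X.mem_aT.1 hz
  refine le_antisymm (fun w hw => X.mem_aT.2 ⟨(X.mem_aT.1 hw).1, ?_⟩)
    (fun w hw => X.mem_aT.2 ⟨(X.mem_aT.1 hw).1, X.aT_comm hy hny hw hz⟩)
  exact (X.aT_comm hzT hnz hw (X.mem_aT.2 ⟨hy, hzy.symm⟩))

theorem conj_mem {y : Q} (hy : y ∈ T) (q : Q) : q * y * q⁻¹ ∈ T := X.normal.conj_mem y hy q

/-- The square roots of `τ` in one abelian subgroup of order 16. -/
theorem card_roots {y : Q} (hy : y ∈ T) (hny : y * y ≠ 1) :
    Nat.card {z : Q // z * z = τ ∧ z ∈ aT T y} = 4 := by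
  obtain ⟨r, hr, hrr⟩ := X.exists_sqrt hy hny X.τ_mem
  rw [← X.card_zT]
  refine (Nat.card_congr (Equiv.ofBijective (fun c : zT T => (⟨r * c, ?_, ?_⟩ :
    {z : Q // z * z = τ ∧ z ∈ aT T y})) ⟨fun a b e => ?_, fun z => ?_⟩)).symm
  · rw [show r * c * (r * c) = r * (c * r) * c by group, ← X.zT_comm c.2 (X.mem_aT.1 hr).1,
      show r * (r * c) * (c : Q) = r * r * (c * c) by group, (X.mem_zT.1 c.2).2, mul_one, hrr]
  · exact mul_mem hr (X.zT_le_aT hy c.2)
  · exact Subtype.ext (mul_left_cancel (congrArg Subtype.val e))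
  · refine ⟨⟨r⁻¹ * z, X.mem_zT.2 ⟨mul_mem (inv_mem (X.mem_aT.1 hr).1) (X.mem_aT.1 z.2.2).1, ?_⟩⟩,
      Subtype.ext (mul_inv_cancel_left r z)⟩
    rw [show r⁻¹ * (z : Q) * (r⁻¹ * z) = r⁻¹ * (z * r⁻¹) * z by group,
      X.aT_comm hy hny z.2.2 (inv_mem hr),
      show r⁻¹ * (r⁻¹ * (z : Q)) * z = (r * r)⁻¹ * (z * z) by group, z.2.1, hrr, inv_mul_cancel]

variable [Finite Q]

omit X in
/-- The square roots of `τ` in `T`. -/
abbrev roots (T : Subgroup Q) (τ : Q) : Set Q := {z | z ∈ T ∧ z * z = τ}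

theorem card_nonCentral : Nat.card {y : Q // y ∈ T ∧ y * y ≠ 1} = 60 := by
  classical
  have : Fintype Q := Fintype.ofFinite Q
  have e : Finset.univ.filter (fun y : Q => y ∈ T ∧ y * y ≠ 1) =
      Finset.univ.filter (fun y : Q => y ∈ T) \ Finset.univ.filter (fun y : Q => y ∈ zT T) := by
    ext y; simp only [Finset.mem_sdiff, Finset.mem_filter, Finset.mem_univ, true_and, X.mem_zT]; tauto
  rw [Nat.card_eq_fintype_card, Fintype.card_subtype, e, Finset.card_sdiff_of_subset,
    ← Fintype.card_subtype, ← Fintype.card_subtype]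
  · have h1 : Fintype.card T = 64 := by rw [← Nat.card_eq_fintype_card, X.shape.card]; norm_num
    have h2 : Fintype.card (zT T) = 4 := by rw [← Nat.card_eq_fintype_card, X.card_zT]
    rw [show Fintype.card {y : Q // y ∈ T} = 64 from h1, show Fintype.card {y : Q // y ∈ zT T} = 4 from h2]
  · intro y hy
    simp only [Finset.mem_filter, Finset.mem_univ, true_and] at hy ⊢
    exact (X.mem_zT.1 hy).1

theorem card_rootsT : Nat.card (roots T τ) = 20 := by
  classical
  have : Fintype Q := Fintype.ofFinite Q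
  set P := Finset.univ.filter (fun y : Q => y ∈ T ∧ y * y ≠ 1)
  set R := Finset.univ.filter (fun z : Q => z ∈ T ∧ z * z = τ) with hR
  have hP : P.card = 60 := by
    rw [← X.card_nonCentral, Nat.card_eq_fintype_card, Fintype.card_subtype]
  have h : P.card * 4 = R.card * 12 := by
    refine Finset.card_mul_eq_card_mul (fun y z : Q => z * y = y * z) (fun y hy => ?_) fun z hz => ?_
    · obtain ⟨hy, hny⟩ := (Finset.mem_filter.1 hy).2
      rw [← X.card_roots hy hny, Nat.card_eq_fintype_card, Fintype.card_subtype]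
      refine congrArg Finset.card (Finset.ext fun z => ?_)
      simp only [R, Finset.bipartiteAbove, Finset.mem_filter, Finset.mem_univ, true_and, X.mem_aT]
      tauto
    · obtain ⟨hz, hzz⟩ := (Finset.mem_filter.1 hz).2
      have hnz : z * z ≠ 1 := hzz ▸ X.ne_τ
      have e : P.bipartiteBelow (fun y z : Q => z * y = y * z) z =
          Finset.univ.filter (fun y : Q => y ∈ aT T z) \ Finset.univ.filter (fun y : Q => y ∈ zT T) := by
        ext y
        simp only [P, Finset.bipartiteBelow, Finset.mem_filter, Finset.mem_univ, true_and,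
          Finset.mem_sdiff, X.mem_aT, X.mem_zT]
        exact ⟨fun ⟨⟨a, b⟩, c⟩ => ⟨⟨a, c.symm⟩, fun d => b d.2⟩, fun ⟨⟨a, c⟩, b⟩ => ⟨⟨a, fun d => b ⟨a, d⟩⟩, c.symm⟩⟩
      rw [e, Finset.card_sdiff_of_subset fun y hy => ?_, ← Fintype.card_subtype, ← Fintype.card_subtype]
      · have h1 : Fintype.card (aT T z) = 16 := by rw [← Nat.card_eq_fintype_card, X.card_aT hz hnz]
        have h2 : Fintype.card (zT T) = 4 := by rw [← Nat.card_eq_fintype_card, X.card_zT]
        rw [show Fintype.card {y : Q // y ∈ aT T z} = 16 from h1,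
          show Fintype.card {y : Q // y ∈ zT T} = 4 from h2]
      · simp only [Finset.mem_filter, Finset.mem_univ, true_and] at hy ⊢
        exact X.zT_le_aT hz hy
  rw [Nat.card_eq_fintype_card, ← Set.toFinset_card,
    show (roots T τ).toFinset = R by ext z; simp [R, roots]]
  omega

/-- An element of odd order fixes the centre of `T` pointwise. -/
theorem comm_zT {q : Q} (hq : Odd (orderOf q)) {c : Q} (hc : c ∈ zT T) : q * c = c * q := by
  classical
  by_cases hc1 : c = 1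
  · simp [hc1]
  by_cases hcτ : c = τ
  · rw [hcτ]; exact X.central q
  have : Fintype (zT T) := Fintype.ofFinite _
  have hin : ∀ {g : Q}, g ∈ zT T → g = 1 ∨ g = τ ∨ g = c ∨ g = τ * c := fun {g} hg => by
    by_contra hcon
    push Not at hcon
    have h5 : ({1, ⟨τ, X.τ_mem⟩, ⟨c, hc⟩, ⟨τ * c, mul_mem X.τ_mem hc⟩, ⟨g, hg⟩} : Finset (zT T)).card = 5 := by
      have a1 : (1 : Q) ≠ τ := X.ne_τ.symm
      have a2 : (1 : Q) ≠ c := Ne.symm hc1
      have a3 : (1 : Q) ≠ τ * c := fun e => hcτ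
        (mul_left_cancel (e.symm.trans X.sq_τ.symm))
      have a4 : τ ≠ τ * c := fun e => hc1 (mul_eq_left.1 e.symm)
      have a5 : c ≠ τ * c := fun e => X.ne_τ (mul_eq_right.1 e.symm)
      rw [Finset.card_insert_of_notMem, Finset.card_insert_of_notMem, Finset.card_insert_of_notMem,
        Finset.card_insert_of_notMem, Finset.card_singleton] <;>
        simp [Subtype.ext_iff, a1, a2, a3, a4, a5, Ne.symm hcτ, Ne.symm hcon.1, Ne.symm hcon.2.1,
          Ne.symm hcon.2.2.1, Ne.symm hcon.2.2.2]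
    have := Finset.card_le_univ ({1, ⟨τ, X.τ_mem⟩, ⟨c, hc⟩, ⟨τ * c, mul_mem X.τ_mem hc⟩, ⟨g, hg⟩} : Finset (zT T))
    rw [h5, ← Nat.card_eq_fintype_card, X.card_zT] at this
    omega
  have hqc : q * c * q⁻¹ ∈ zT T := X.mem_zT.2 ⟨X.conj_mem (X.mem_zT.1 hc).1 q, by
    rw [show q * c * q⁻¹ * (q * c * q⁻¹) = q * (c * c) * q⁻¹ by group, (X.mem_zT.1 hc).2, mul_one,
      mul_inv_cancel]⟩
  have hτq : q * τ * q⁻¹ = τ := by rw [X.central, mul_inv_cancel_right]
  have h2 : q * q * c = c * (q * q) := by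
    rcases hin hqc with e | e | e | e
    · exact absurd (conj_eq_one_iff.1 e) hc1
    · exact absurd ((MulAut.conj q).injective (e.trans hτq.symm)) hcτ
    · have h : q * c = c * q := mul_inv_eq_iff_eq_mul.1 e
      rw [mul_assoc, h, ← mul_assoc, h, mul_assoc]
    · refine mul_inv_eq_iff_eq_mul.1 ?_
      calc q * q * c * (q * q)⁻¹ = q * (q * c * q⁻¹) * q⁻¹ := by group
        _ = q * (τ * c) * q⁻¹ := by rw [e]
        _ = q * τ * q⁻¹ * (q * c * q⁻¹) := by group
        _ = τ * (τ * c) := by rw [hτq, e]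
        _ = c := by rw [← mul_assoc, X.sq_τ, one_mul]
  obtain ⟨m, hm⟩ := hq
  have hp : (q * q) ^ (m + 1) = q := by
    rw [← pow_two, ← pow_mul, show 2 * (m + 1) = 2 * m + 1 + 1 by ring, pow_succ, ← hm,
      pow_orderOf_eq_one, one_mul]
  have := (Commute.pow_left (h2 : Commute (q * q) c) (m + 1)).eq
  rwa [hp] at this

/-- An element of odd order fixing a non-central element of `T` centralises its abelian subgroup. -/
theorem comm_aT {q : Q} (hq : Odd (orderOf q)) {y : Q} (hy : y ∈ T) (hny : y * y ≠ 1)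
    (hqy : q * y = y * q) {z : Q} (hz : z ∈ aT T y) : q * z = z * q := by
  obtain ⟨hzT, hzy⟩ := X.mem_aT.1 hz
  have hqy' : q * y * q⁻¹ = y := by rw [hqy, mul_inv_cancel_right]
  have hw : q * z * q⁻¹ ∈ aT T y := X.mem_aT.2 ⟨X.conj_mem hzT q, by
    nth_rewrite 1 [← hqy']
    nth_rewrite 2 [← hqy']
    rw [show q * z * q⁻¹ * (q * y * q⁻¹) = q * (z * y) * q⁻¹ by group, hzy]
    group⟩
  set e := z⁻¹ * (q * z * q⁻¹) with he
  have hsq : q * z * q⁻¹ * (q * z * q⁻¹) = z * z := by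
    rw [show q * z * q⁻¹ * (q * z * q⁻¹) = q * (z * z) * q⁻¹ by group,
      X.comm_zT hq (X.zT_sq hzT), mul_inv_cancel_right]
  have he2 : e * e = 1 := by
    rw [he, show z⁻¹ * (q * z * q⁻¹) * (z⁻¹ * (q * z * q⁻¹)) =
      z⁻¹ * (q * z * q⁻¹ * z⁻¹) * (q * z * q⁻¹) by group, X.aT_comm hy hny hw (inv_mem hz),
      show z⁻¹ * (z⁻¹ * (q * z * q⁻¹)) * (q * z * q⁻¹) = (z * z)⁻¹ * (q * z * q⁻¹ * (q * z * q⁻¹)) by group,
      hsq, inv_mul_cancel]
  have hez : e ∈ zT T := X.mem_zT.2 ⟨mul_mem (inv_mem hzT) (X.mem_aT.1 hw).1, he2⟩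
  have hqz : q * z * q⁻¹ = z * e := by rw [he, mul_inv_cancel_left]
  have hn : ∀ n : ℕ, q ^ n * z * (q ^ n)⁻¹ = z * e ^ n := fun n => by
    induction n with
    | zero => simp
    | succ n ih =>
      rw [show q ^ (n + 1) * z * (q ^ (n + 1))⁻¹ = q * (q ^ n * z * (q ^ n)⁻¹) * q⁻¹ by rw [pow_succ']; group,
        ih, show q * (z * e ^ n) * q⁻¹ = q * z * q⁻¹ * (q * e ^ n * q⁻¹) by group,
        X.comm_zT hq (pow_mem hez n), mul_inv_cancel_right, hqz, mul_assoc, ← pow_succ']
  have h := hn (orderOf q)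
  rw [pow_orderOf_eq_one, one_mul, inv_one, mul_one, left_eq_mul] at h
  obtain ⟨m, hm⟩ := hq
  rw [hm, pow_succ, pow_mul, pow_two, he2, one_pow, one_mul] at h
  rw [← mul_inv_eq_iff_eq_mul, hqz, h, mul_one]

omit X in
theorem eq_one_of_odd_mem {S : Subgroup Q} (hS : IsPGroup 2 S) {q : Q} (hq : q ∈ S) (ho : Odd (orderOf q)) :
    q = 1 := by
  obtain ⟨k, hk⟩ := hS ⟨q, hq⟩
  obtain ⟨j, -, hj⟩ := (Nat.dvd_prime_pow Nat.prime_two).1
    (orderOf_dvd_of_pow_eq_one (congrArg Subtype.val hk : q ^ 2 ^ k = 1))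
  rw [hj] at ho
  rcases j with _ | j
  · exact orderOf_eq_one_iff.1 (hj.trans (pow_zero 2))
  · exact absurd ho (Nat.not_odd_iff_even.2 ⟨2 ^ j, by ring⟩)

theorem isPGroup_T : IsPGroup 2 T := IsPGroup.of_card (n := 6) (by rw [X.shape.card]; norm_num)

/-- An element of odd order centralising two different abelian subgroups of order 16 is trivial. -/
theorem eq_one_of_two {q : Q} (hq : Odd (orderOf q)) {y z : Q} (hy : y ∈ T) (hny : y * y ≠ 1)
    (hz : z ∈ T) (hnz : z * z ≠ 1) (hzy : z ∉ aT T y) (hqy : q * y = y * q) (hqz : q * z = z * q) :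
    q = 1 := by
  set C := T ⊓ centralizer ({q} : Set Q) with hC
  have hle : ∀ {w : Q}, w ∈ T → w * w ≠ 1 → q * w = w * q → aT T w ≤ C := fun hw hnw hqw a ha =>
    ⟨(X.mem_aT.1 ha).1, mem_centralizer_singleton_iff.2 (X.comm_aT hq hw hnw hqw ha).symm⟩
  have hinf : aT T y ⊓ aT T z = zT T := by
    refine le_antisymm (fun w hw => ?_) (le_inf (X.zT_le_aT hy) (X.zT_le_aT hz))
    by_contra hwn
    have hnw : w * w ≠ 1 := fun e => hwn (X.mem_zT.2 ⟨(X.mem_aT.1 hw.1).1, e⟩)
    exact hzy (by rw [← X.aT_eq hy hny hw.1 hnw, X.aT_eq hz hnz hw.2 hnw]; exact X.mem_aT.2 ⟨hz, rfl⟩)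
  have h4 : (aT T y).relIndex (aT T z) = 4 := by
    have h := (zT T).relIndex_mul_relIndex (H := (⊥ : Subgroup Q)) (L := aT T z) bot_le (X.zT_le_aT hz)
    rw [relIndex_bot_left, relIndex_bot_left, X.card_zT, X.card_aT hz hnz] at h
    rw [← inf_relIndex_right, hinf]
    omega
  have h4' : 4 ≤ (aT T y).relIndex C := by
    rw [← h4]; exact relIndex_le_of_le_right (hle hz hnz hqz) index_ne_zero_of_finite
  have h64 : 64 ≤ Nat.card C := by
    have h := (aT T y).relIndex_mul_relIndex (H := (⊥ : Subgroup Q)) (L := C) bot_le (hle hy hny hqy)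
    rw [relIndex_bot_left, relIndex_bot_left, X.card_aT hy hny] at h
    rw [← h]; omega
  have hT : C = T := eq_of_le_of_card_ge inf_le_left (by rw [X.shape.card]; norm_num; exact h64)
  refine eq_one_of_odd_mem X.isPGroup_T (X.cent (mem_centralizer_iff.2 fun w hw => ?_)) hq
  exact mem_centralizer_singleton_iff.1 (hT ▸ hw : w ∈ C).2

omit X in
theorem odd_orderOf_pow {q : Q} (hq : Odd (orderOf q)) {h : Q} (hh : h ∈ zpowers q) : Odd (orderOf h) := by
  have := orderOf_dvd_natCard (⟨h, hh⟩ : zpowers q)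
  rw [← Subgroup.orderOf_coe, Nat.card_zpowers] at this
  exact hq.of_dvd_nat this

/-- An element of odd order fixing a root of `τ` is trivial. -/
theorem eq_one_of_fix {q : Q} (hq : Odd (orderOf q)) {y : Q} (hy : y ∈ T) (hyτ : y * y = τ)
    (hqy : q * y = y * q) : q = 1 := by
  classical
  have hny : y * y ≠ 1 := hyτ ▸ X.ne_τ
  set W : Set Q := {z | (z ∈ T ∧ z * z = τ) ∧ z ∉ aT T y} with hW
  have hcard : Nat.card W = 16 := by
    have : Fintype Q := Fintype.ofFinite Q
    have h1 : Nat.card (roots T τ) = 20 := X.card_rootsT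
    have h2 := X.card_roots hy hny
    rw [Nat.card_eq_fintype_card, Fintype.card_subtype] at h2
    rw [Nat.card_eq_fintype_card, ← Set.toFinset_card] at h1 ⊢
    have e : W.toFinset = (roots T τ).toFinset \ Finset.univ.filter (fun z => z * z = τ ∧ z ∈ aT T y) := by
      ext z
      simp only [Set.mem_toFinset, W, roots, Finset.mem_sdiff, Finset.mem_filter, Finset.mem_univ, true_and,
        Set.mem_ofPred_eq]
      tauto
    rw [e, Finset.card_sdiff_of_subset fun z hz => ?_, h1, h2]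
    simp only [Finset.mem_filter, Finset.mem_univ, true_and] at hz
    exact Set.mem_toFinset.2 ⟨(X.mem_aT.1 hz.2).1, hz.1⟩
  have hcom : ∀ h ∈ zpowers q, h * y = y * h := fun h hh => by
    obtain ⟨k, rfl⟩ := mem_zpowers_iff.1 hh
    exact (Commute.zpow_left (hqy : Commute q y) k).eq
  have hdvd := card_dvd_of_free (zpowers q) W
    (fun h hh z hz => ⟨⟨X.conj_mem hz.1.1 h, by
        rw [show h * z * h⁻¹ * (h * z * h⁻¹) = h * (z * z) * h⁻¹ by group, hz.1.2, X.central,
          mul_inv_cancel_right]⟩, fun hmem => hz.2 (X.mem_aT.2 ⟨hz.1.1, (MulAut.conj h).injective (by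
        show h * (z * y) * h⁻¹ = h * (y * z) * h⁻¹
        have hy' : h * y * h⁻¹ = y := by rw [hcom h hh, mul_inv_cancel_right]
        have e := (X.mem_aT.1 hmem).2
        calc h * (z * y) * h⁻¹ = h * z * h⁻¹ * (h * y * h⁻¹) := by group
          _ = y * (h * z * h⁻¹) := by rw [hy', e]
          _ = h * y * h⁻¹ * (h * z * h⁻¹) := by rw [hy']
          _ = _ := by group)⟩)⟩)
    (fun h hh z hz hfix => X.eq_one_of_two (odd_orderOf_pow hq hh) hy hny hz.1.1 (hz.1.2 ▸ X.ne_τ) hz.2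
      (hcom h hh) (mul_inv_eq_iff_eq_mul.1 hfix))
  rw [Nat.card_zpowers, hcard] at hdvd
  obtain ⟨j, -, hj⟩ := (Nat.dvd_prime_pow Nat.prime_two).1 (show orderOf q ∣ 2 ^ 4 from hdvd)
  exact eq_one_of_odd_mem (IsPGroup.of_card (n := j) ((Nat.card_zpowers q).trans hj)) (mem_zpowers q) hq

theorem exists_compl : ∃ H : Subgroup Q, Odd (Nat.card H) ∧ Nat.card H = T.index ∧ Disjoint T H := by
  have := X.normal
  have hcop : (Nat.card T).Coprime T.index := by
    rw [X.shape.card, show (2 ^ 2) ^ 3 = 2 ^ 6 from rfl]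
    exact (Nat.coprime_two_left.2 X.odd_index).pow_left 6
  obtain ⟨H, hH⟩ := exists_right_complement'_of_coprime hcop
  have hHc : Nat.card H = T.index := by
    have h1 := hH.card_mul_card
    rw [← T.card_mul_index] at h1
    exact Nat.eq_of_mul_eq_mul_left Nat.card_pos h1
  exact ⟨H, hHc ▸ X.odd_index, hHc, hH.disjoint⟩

/-- `Q = T` or `Q ⧸ T` has order five. -/
theorem index_cases : T.index = 1 ∨ T.index = 5 := by
  obtain ⟨H, hodd, hcard, -⟩ := X.exists_compl
  have h := card_dvd_of_free H (roots T τ)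
    (fun h _ z hz => ⟨X.conj_mem hz.1 h, by
      rw [show h * z * h⁻¹ * (h * z * h⁻¹) = h * (z * z) * h⁻¹ by group, hz.2, X.central,
        mul_inv_cancel_right]⟩)
    (fun h hh z hz hfix => X.eq_one_of_fix
      (hodd.of_dvd_nat (Subgroup.orderOf_dvd_natCard _ hh)) hz.1 hz.2 (mul_inv_eq_iff_eq_mul.1 hfix))
  rw [X.card_rootsT, hcard] at h
  have h20 := Nat.le_of_dvd (by norm_num) h
  obtain ⟨m, hm⟩ := X.odd_index
  rw [hm] at h h20 ⊢
  have : m ≤ 9 := by omega
  interval_cases m <;> revert h <;> norm_num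

variable (h5 : T.index = 5)
include h5

theorem card_Q : Nat.card Q = 320 := by
  rw [← T.card_mul_index, X.shape.card, h5]
  norm_num

theorem exists_five : ∃ φ : Q, orderOf φ = 5 := by
  obtain ⟨H, -, hcard, -⟩ := X.exists_compl
  have : Fact (Nat.Prime 5) := ⟨by norm_num⟩
  obtain ⟨a, ha⟩ := exists_prime_orderOf_dvd_card' (G := H) 5 (by rw [hcard, h5])
  exact ⟨a, (Subgroup.orderOf_coe a).trans ha⟩

/-- The centraliser of an element of order five has order twenty. -/
theorem card_cent_five {φ : Q} (hφ : orderOf φ = 5) : Nat.card (centralizer ({φ} : Set Q)) = 20 := by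
  have := X.normal
  set C := centralizer ({φ} : Set Q)
  have hodd : Odd (orderOf φ) := ⟨2, hφ⟩
  have hCT : C ⊓ T = zT T := by
    refine le_antisymm (fun w hw => ?_) (le_inf (fun w hw => mem_centralizer_singleton_iff.2
      (X.comm_zT hodd hw).symm) fun w hw => (X.mem_zT.1 hw).1)
    by_contra hwn
    have hnw : w * w ≠ 1 := fun e => hwn (X.mem_zT.2 ⟨hw.2, e⟩)
    have hφw : φ * w = w * φ := (mem_centralizer_singleton_iff.1 hw.1).symm
    obtain ⟨r, hr, hrr⟩ := X.exists_sqrt hw.2 hnw X.τ_mem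
    have := X.eq_one_of_fix hodd (X.mem_aT.1 hr).1 hrr (X.comm_aT hodd hw.2 hnw hφw hr)
    rw [this, orderOf_one] at hφ
    omega
  have h := (C ⊓ T).relIndex_mul_relIndex (H := (⊥ : Subgroup Q)) (L := C) bot_le inf_le_left
  rw [relIndex_bot_left, relIndex_bot_left, inf_relIndex_left, hCT, X.card_zT] at h
  have hd : T.relIndex C ∣ 5 := h5 ▸ relIndex_dvd_index_of_normal T C
  have h5' : 5 ∣ Nat.card C := hφ ▸ Subgroup.orderOf_dvd_natCard C (mem_centralizer_singleton_iff.2 rfl)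
  rcases (Nat.dvd_prime (by norm_num)).1 hd with e | e <;> rw [e] at h <;> omega

/-- The centraliser of a root of `τ` has order sixteen. -/
theorem card_centralizer {x : Q} (hx : x ∈ T) (hxx : x * x = τ) :
    Nat.card (centralizer ({x} : Set Q)) = 16 := by
  have := X.normal
  set C := centralizer ({x} : Set Q)
  have hCT : C ⊓ T = aT T x := inf_comm _ _
  have hnx : x * x ≠ 1 := hxx ▸ X.ne_τ
  have h := (C ⊓ T).relIndex_mul_relIndex (H := (⊥ : Subgroup Q)) (L := C) bot_le inf_le_left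
  rw [relIndex_bot_left, relIndex_bot_left, inf_relIndex_left, hCT, X.card_aT hx hnx] at h
  have hd : T.relIndex C ∣ 5 := h5 ▸ relIndex_dvd_index_of_normal T C
  rcases (Nat.dvd_prime (by norm_num)).1 hd with e | e <;> rw [e] at h
  · omega
  · exfalso
    have : Fact (Nat.Prime 5) := ⟨by norm_num⟩
    obtain ⟨q, hq⟩ := exists_prime_orderOf_dvd_card' (G := C) 5 (by omega)
    rw [← Subgroup.orderOf_coe] at hq
    have := X.eq_one_of_fix ⟨2, hq⟩ hx hxx (mem_centralizer_singleton_iff.1 q.2)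
    rw [this, orderOf_one] at hq
    omega

/-- The roots of `τ` are conjugate. -/
theorem conj_roots {x : Q} (hx : x ∈ T) (hxx : x * x = τ) {z : Q} (hz : z ∈ T) (hzz : z * z = τ) :
    ∃ q : Q, q * x * q⁻¹ = z := by
  classical
  have hcard := X.card_centralizer h5 hx hxx
  have : Fintype Q := Fintype.ofFinite Q
  let F : ConjAct Q → Q := fun g => g • x
  have hidx := MulAction.index_stabilizer (ConjAct Q) x
  rw [ConjAct.stabilizer_eq_centralizer] at hidx
  have horb : (MulAction.orbit (ConjAct Q) x) = roots T τ := by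
    refine Set.eq_of_subset_of_ncard_le ?_ ?_ (Set.toFinite _)
    · rintro _ ⟨g, rfl⟩
      refine ⟨X.conj_mem hx _, ?_⟩
      show (ConjAct.ofConjAct g * x * (ConjAct.ofConjAct g)⁻¹) *
        (ConjAct.ofConjAct g * x * (ConjAct.ofConjAct g)⁻¹) = τ
      rw [show ∀ a : Q, a * x * a⁻¹ * (a * x * a⁻¹) = a * (x * x) * a⁻¹ from fun a => by group, hxx,
        X.central, mul_inv_cancel_right]
    · rw [← Nat.card_coe_set_eq (roots T τ), X.card_rootsT, ← hidx]
      have := (centralizer ({x} : Set Q)).card_mul_index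
      rw [hcard, X.card_Q h5] at this
      show 20 ≤ (centralizer ({ConjAct.toConjAct x} : Set (ConjAct Q))).index
      change 16 * (centralizer ({ConjAct.toConjAct x} : Set (ConjAct Q))).index = 320 at this
      omega
  have hmem : z ∈ MulAction.orbit (ConjAct Q) x := horb ▸ ⟨hz, hzz⟩
  obtain ⟨g, hg⟩ := hmem
  exact ⟨ConjAct.ofConjAct g, hg⟩

/-- The involutions of `Q` are central. -/
theorem involution_central {a : Q} (ha : a * a = 1) (q : Q) : q * a = a * q := by
  have := X.normal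
  have haT : a ∈ T := by
    have h := T.pow_index_mem a
    rwa [h5, show a ^ 5 = (a * a) * (a * a) * a by simp only [pow_succ, pow_zero, one_mul, mul_assoc], ha, one_mul, one_mul] at h
  have haz : a ∈ zT T := X.mem_zT.2 ⟨haT, ha⟩
  obtain ⟨φ, hφ⟩ := X.exists_five h5
  set C := centralizer ({a} : Set Q)
  have hT : T ≤ C := fun s hs => mem_centralizer_singleton_iff.2 (X.zT_comm haz hs)
  have h5' : 5 ∣ Nat.card C := hφ ▸ Subgroup.orderOf_dvd_natCard C
    (mem_centralizer_singleton_iff.2 (X.comm_zT ⟨2, hφ⟩ haz))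
  have h64 : 64 ∣ Nat.card C := by simpa [X.shape.card] using card_dvd_of_le hT
  have h320 : 320 ∣ Nat.card C := (by norm_num : Nat.Coprime 5 64).mul_dvd_of_dvd_of_dvd h5' h64
  have htop : C = ⊤ := eq_top_of_card_eq C
    (Nat.dvd_antisymm (card_subgroup_dvd_card C) (by rw [X.card_Q h5]; exact h320))
  exact mem_centralizer_singleton_iff.1 (htop ▸ mem_top q : q ∈ C)

end Ext

end CfsgLib.UFour
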