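import Cfsg.Agent.Lib.Recog.UFourSylow.Threshold
import Cfsg.Agent.Lib.Recog.USylow.Central

/-!
Owner: helper19. A Sylow 2-subgroup of `U₃(4)` type provides `CfsgLib.UFour.Pins` for any two of its
central involutions.
-/

set_option autoImplicit false

namespace CfsgLib.UFour

open Subgroup
open CfsgLib.USylow
open scoped commutatorElement

universe u

section Abstract

variable {P : Type u} [Group P] (hT : UType P 2)

include hT

theorem central_comm {c : P} (hc : c ∈ center P) (g : P) : c * g = g * c :=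
  (mem_center_iff.1 hc g).symm

theorem comm_symm (a b : P) : ⁅a, b⁆ = ⁅b, a⁆ := by
  have h := (hT.center_iff _).1 (hT.comm_mem b a)
  rw [← commutatorElement_inv b a]
  exact inv_eq_of_mul_eq_one_right h

theorem comm_mul_right (a b c : P) : ⁅a, b * c⁆ = ⁅a, b⁆ * ⁅a, c⁆ := by
  have h := central_comm hT (hT.comm_mem a c) b⁻¹
  calc ⁅a, b * c⁆ = ⁅a, b⁆ * (b * (⁅a, c⁆ * b⁻¹)) := by simp only [commutatorElement_def]; group
    _ = ⁅a, b⁆ * ⁅a, c⁆ := by rw [h, mul_inv_cancel_left]

theorem comm_mul_left (a b c : P) : ⁅a * b, c⁆ = ⁅a, c⁆ * ⁅b, c⁆ := by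
  rw [comm_symm hT, comm_mul_right hT, comm_symm hT c a, comm_symm hT c b]

theorem sq_mul (a b : P) : a * b * (a * b) = a * a * (b * b) * ⁅a, b⁆ := by
  have h := central_comm hT (hT.comm_mem b a) a
  have h' := central_comm hT (hT.comm_mem b a) (a * a * (b * b))
  calc a * b * (a * b) = a * (⁅b, a⁆ * a) * (b * b) := by simp only [commutatorElement_def]; group
    _ = a * a * (⁅b, a⁆ * (b * b)) := by rw [h]; group
    _ = a * a * (b * b) * ⁅b, a⁆ := by
      rw [central_comm hT (hT.comm_mem b a) (b * b)]; group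
    _ = _ := by rw [comm_symm hT b a]

theorem comm_center {c : P} (hc : c ∈ center P) (a : P) : ⁅a, c⁆ = 1 :=
  commutatorElement_eq_one_iff_mul_comm.2 (mem_center_iff.1 hc a)

theorem center_cases {t u : P} (ht : t ∈ center P) (hu : u ∈ center P) (ht1 : t ≠ 1) (hu1 : u ≠ 1)
    (hne : u ≠ t) {c : P} (hc : c ∈ center P) : c = 1 ∨ c = t ∨ c = u ∨ c = t * u := by
  haveI : Finite P := Nat.finite_of_card_ne_zero (by rw [hT.card]; norm_num)
  classical
  haveI := Fintype.ofFinite (center P)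
  set s : Finset (center P) := {1, ⟨t, ht⟩, ⟨u, hu⟩, ⟨t * u, mul_mem ht hu⟩} with hs
  have h4 : s.card = 4 := by
    rw [hs, Finset.card_insert_of_notMem, Finset.card_insert_of_notMem, Finset.card_insert_of_notMem,
      Finset.card_singleton]
    · simp only [Finset.mem_singleton, Subtype.ext_iff]
      intro h
      exact ht1 (mul_eq_right.1 h.symm)
    · simp only [Finset.mem_insert, Finset.mem_singleton, Subtype.ext_iff, not_or]
      exact ⟨hne.symm, fun h => hu1 (mul_eq_left.1 h.symm)⟩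
    · simp only [Finset.mem_insert, Finset.mem_singleton, Subtype.ext_iff, not_or, OneMemClass.coe_one]
      refine ⟨ht1.symm, hu1.symm, fun h => hne ?_⟩
      rw [← inv_eq_of_mul_eq_one_right h.symm]
      exact inv_eq_of_mul_eq_one_right ((hT.center_iff t).1 ht)
  have htop : s = Finset.univ := Finset.eq_univ_of_card s (by
    rw [h4, ← Nat.card_eq_fintype_card, hT.card_center]; norm_num)
  have hmem : (⟨c, hc⟩ : center P) ∈ s := htop ▸ Finset.mem_univ _
  simpa [hs, Subtype.ext_iff] using hmem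

theorem exists_comm {x c : P} (hx : x ∉ center P) (hc : c ∈ center P) : ∃ y, ⁅x, y⁆ = c := by
  haveI : Finite P := Nat.finite_of_card_ne_zero (by rw [hT.card]; norm_num)
  let f : P →* center P :=
    { toFun := fun y => ⟨⁅x, y⁆, hT.comm_mem x y⟩
      map_one' := Subtype.ext (commutatorElement_one_right x)
      map_mul' := fun a b => Subtype.ext (comm_mul_right hT x a b) }
  have hker : ∀ y, y ∈ f.ker ↔ Commute x y := fun y => by
    rw [MonoidHom.mem_ker, Subtype.ext_iff]
    exact commutatorElement_eq_one_iff_commute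
  let sq : f.ker →* center P :=
    { toFun := fun a => ⟨(a : P) * a, hT.sq_mem _⟩
      map_one' := Subtype.ext (mul_one 1)
      map_mul' := fun a b => Subtype.ext (by
        show (a : P) * b * ((a : P) * b) = a * a * (b * b)
        exact (hT.cen_comm x hx _ _ ((hker _).1 b.2).symm ((hker _).1 a.2).symm).mul_mul_mul_comm _ _) }
  have hsker : Nat.card sq.ker ≤ 4 := by
    refine le_of_le_of_eq (Nat.card_le_card_of_injective
      (fun a : sq.ker => (⟨((a : f.ker) : P), (hT.center_iff _).2 (congrArg Subtype.val a.2)⟩ : center P))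
      fun a b h => Subtype.ext (Subtype.ext (Subtype.ext_iff.1 h :))) ?_
    rw [hT.card_center]; norm_num
  have hrange : ∀ {K : Type u} [Group K] (g : K →* center P), Nat.card g.range ≤ 4 := fun g =>
    le_of_le_of_eq (Subgroup.card_le_card_group _) (by rw [hT.card_center]; norm_num)
  have h1 : Nat.card f.ker ≤ 16 := by
    rw [← Subgroup.card_mul_index sq.ker, Subgroup.index_ker]
    exact le_trans (Nat.mul_le_mul hsker (hrange sq)) (by norm_num)
  have h2 : Nat.card f.ker * Nat.card f.range = 64 := by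
    rw [← Subgroup.index_ker, Subgroup.card_mul_index, hT.card]; norm_num
  have h3 : f.range = ⊤ := by
    refine (Subgroup.card_eq_iff_eq_top _).1 ?_
    rw [hT.card_center]
    have h4 := hrange f
    have : 4 ≤ Nat.card f.range := by
      by_contra h
      have := Nat.mul_le_mul h1 (Nat.le_of_lt_succ (Nat.lt_of_not_le h))
      rw [h2] at this
      norm_num at this
    exact le_antisymm (h4.trans (by norm_num)) (le_trans (by norm_num) this)
  obtain ⟨y, hy⟩ := (h3 ▸ mem_top _ : (⟨c, hc⟩ : center P) ∈ f.range)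
  exact ⟨y, congrArg Subtype.val hy⟩

variable {t u : P} (ht : t ∈ center P) (hu : u ∈ center P) (ht1 : t ≠ 1) (hu1 : u ≠ 1) (hne : u ≠ t)

include ht hu ht1 hu1 hne

theorem tu_ne_one : t * u ≠ 1 := fun h => hne (by
  rw [← inv_eq_of_mul_eq_one_right h]
  exact inv_eq_of_mul_eq_one_right ((hT.center_iff t).1 ht))

/-- No quaternion subgroup. -/
theorem noQuat_aux {x y y' : P} (hxy : ⁅x, y⁆ = t) (hx : x * x = t) (hy : y * y = t)
    (hc : Commute y' y) (hy' : y' * y' = u) : ⁅x, y'⁆ = u := by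
  have hnc : ¬Commute x y := fun h => ht1 (hxy ▸ commutatorElement_eq_one_iff_commute.2 h)
  have ht2 := (hT.center_iff t).1 ht
  rcases center_cases hT ht hu ht1 hu1 hne (hT.comm_mem x y') with e | e | e | e
  · exfalso
    have hz : y' ∉ center P := fun h => hu1 (hy' ▸ (hT.center_iff y').1 h)
    exact hnc (hT.cen_comm y' hz x y (commutatorElement_eq_one_iff_commute.1 e) hc.symm)
  · exfalso
    have hz : y * y' ∉ center P := fun h => by
      have := (hT.center_iff _).1 h
      rw [hc.mul_mul_mul_comm, hy, hy'] at this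
      exact tu_ne_one hT ht hu ht1 hu1 hne this
    have e1 : ⁅x, y * y'⁆ = 1 := by rw [comm_mul_right hT, hxy, e, ht2]
    exact hnc (hT.cen_comm _ hz x y (commutatorElement_eq_one_iff_commute.1 e1)
      ((Commute.refl y).mul_left hc).symm)
  · exact e
  · exfalso
    have hz : x * y' ∈ center P := (hT.center_iff _).2 (by
      rw [sq_mul hT, hx, hy', e]
      exact (hT.center_iff _).1 (mul_mem ht hu))
    have e1 := comm_center hT hz x
    rw [comm_mul_right hT, commutatorElement_self, one_mul, e] at e1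
    exact tu_ne_one hT ht hu ht1 hu1 hne e1

theorem noQuat {x y : P} (hxy : ⁅x, y⁆ = t) (hx : x * x = t) (hy : y * y = t) : False := by
  have hxn : x ∉ center P := fun h => ht1 (hx ▸ (hT.center_iff x).1 h)
  have hyn : y ∉ center P := fun h => ht1 (hy ▸ (hT.center_iff y).1 h)
  obtain ⟨x', hcx, hx'⟩ := hT.cen_root x hxn u hu
  obtain ⟨y', hcy, hy'⟩ := hT.cen_root y hyn u hu
  have ht2 := (hT.center_iff t).1 ht
  have hu2 := (hT.center_iff u).1 hu
  have htu := tu_ne_one hT ht hu ht1 hu1 hne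
  have hxy' := noQuat_aux hT ht hu ht1 hu1 hne hxy hx hy hcy hy'
  have hx'y : ⁅x', y⁆ = u := by
    rw [comm_symm hT]
    exact noQuat_aux hT ht hu ht1 hu1 hne (by rw [comm_symm hT]; exact hxy) hy hx hcx hx'
  have hx'n : x' ∉ center P := fun h => hu1 (hx' ▸ (hT.center_iff x').1 h)
  have hxx' : ⁅x, x'⁆ = 1 := commutatorElement_eq_one_iff_commute.2 hcx.symm
  have hyy' : ⁅y, y'⁆ = 1 := commutatorElement_eq_one_iff_commute.2 hcy.symm
  have hB : y * y' * (y * y') = t * u := by rw [sq_mul hT, hy, hy', hyy', mul_one]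
  have hx'y' : ⁅x', y'⁆ = t := by
    rcases center_cases hT ht hu ht1 hu1 hne (hT.comm_mem x' y') with e | e | e | e
    · exfalso
      have := hT.cen_comm x' hx'n x y' hcx.symm (commutatorElement_eq_one_iff_commute.1 e).symm
      exact hu1 (hxy' ▸ commutatorElement_eq_one_iff_commute.2 this)
    · exact e
    · exfalso
      have e1 : ⁅x', y * y'⁆ = 1 := by rw [comm_mul_right hT, hx'y, e, hu2]
      have := commutatorElement_eq_one_iff_commute.2
        (hT.cen_comm x' hx'n x _ hcx.symm (commutatorElement_eq_one_iff_commute.1 e1).symm)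
      rw [comm_mul_right hT, hxy, hxy'] at this
      exact htu this
    · exfalso
      have e1 : ⁅x', y * y'⁆ = t := by
        rw [comm_mul_right hT, hx'y, e, central_comm hT ht u, ← mul_assoc, hu2, one_mul]
      have hz : x' * (y * y') ∈ center P := (hT.center_iff _).2 (by
        rw [sq_mul hT, hx', hB, e1, central_comm hT ht u, ← mul_assoc, hu2, one_mul, ht2])
      have e2 := comm_center hT hz x'
      rw [comm_mul_right hT, commutatorElement_self, one_mul, e1] at e2
      exact ht1 e2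
  have hab : ⁅x * x', y * y'⁆ = 1 := by
    rw [comm_mul_left hT, comm_mul_right hT, comm_mul_right hT, hxy, hxy', hx'y, hx'y']
    calc t * u * (u * t) = t * (u * u) * t := by group
      _ = 1 := by rw [hu2, mul_one, ht2]
  have hz : x * x' * (y * y') ∈ center P := (hT.center_iff _).2 (by
    rw [sq_mul hT, sq_mul hT x x', hx, hx', hxx', hB, hab, mul_one, mul_one]
    exact (hT.center_iff _).1 (mul_mem ht hu))
  have e := comm_center hT hz x
  rw [comm_mul_right hT, comm_mul_right hT, comm_mul_right hT, commutatorElement_self, hxx', hxy,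
    hxy', one_mul, one_mul] at e
  exact htu e

theorem quad : ∃ x₁ y₁ x₂ y₂ : P,
    (⁅x₁, y₁⁆ = t ∨ ⁅x₁, y₁⁆ = t * u) ∧ (⁅x₂, y₂⁆ = t ∨ ⁅x₂, y₂⁆ = t * u) ∧
    (⁅x₁, x₂⁆ = 1 ∨ ⁅x₁, x₂⁆ = u) ∧ (⁅x₁, y₂⁆ = 1 ∨ ⁅x₁, y₂⁆ = u) := by
  haveI : Finite P := Nat.finite_of_card_ne_zero (by rw [hT.card]; norm_num)
  have ht2 := (hT.center_iff t).1 ht
  have hu2 := (hT.center_iff u).1 hu
  obtain ⟨x₁, hx₁⟩ : ∃ x : P, x ∉ center P := by
    by_contra hh
    push Not at hh
    have := hT.card_center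
    rw [(eq_top_iff.2 fun x _ => hh x : center P = ⊤), Subgroup.card_top, hT.card] at this
    norm_num at this
  obtain ⟨y₁, hy₁⟩ := exists_comm hT hx₁ ht
  let U : Subgroup P :=
    { carrier := {c | c = 1 ∨ c = u}
      one_mem' := Or.inl rfl
      mul_mem' := by rintro a b (rfl | rfl) (rfl | rfl) <;> simp [hu2]
      inv_mem' := by
        rintro a (rfl | rfl)
        · simp
        · exact Or.inr (inv_eq_of_mul_eq_one_right hu2) }
  have hmul : ∀ {c}, c ∈ center P → c ∉ U → c * t ∈ U := fun {c} hc hcU => by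
    rcases center_cases hT ht hu ht1 hu1 hne hc with rfl | rfl | rfl | rfl
    · exact absurd (Or.inl rfl) hcU
    · exact Or.inl ht2
    · exact absurd (Or.inr rfl) hcU
    · refine Or.inr ?_
      rw [central_comm hT ht u, mul_assoc, ht2, mul_one]
  have hout : ∀ {c}, c ∈ center P → c ∈ U ∨ c = t ∨ c = t * u := fun {c} hc => by
    rcases center_cases hT ht hu ht1 hu1 hne hc with e | e | e | e
    · exact Or.inl (Or.inl e)
    · exact Or.inr (Or.inl e)
    · exact Or.inl (Or.inr e)
    · exact Or.inr (Or.inr e)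
  let k : Bool × Bool → P := fun i => (if i.1 then y₁ else 1) * (if i.2 then x₁ else 1)
  have hyx : ⁅y₁, x₁⁆ = t := by rw [comm_symm hT]; exact hy₁
  have hcorr : ∀ w, ∃ i, ⁅x₁, w * k i⁆ ∈ U ∧ ⁅y₁, w * k i⁆ ∈ U := fun w => by
    classical
    refine ⟨(decide (⁅x₁, w⁆ ∉ U), decide (⁅y₁, w⁆ ∉ U)), ?_, ?_⟩
    · simp only [k]
      by_cases h : ⁅x₁, w⁆ ∈ U <;> by_cases h' : ⁅y₁, w⁆ ∈ U <;>
        simp [h, h', comm_mul_right hT, commutatorElement_self, hy₁, hmul (hT.comm_mem x₁ w)]
    · simp only [k]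
      by_cases h : ⁅x₁, w⁆ ∈ U <;> by_cases h' : ⁅y₁, w⁆ ∈ U <;>
        simp [h, h', comm_mul_right hT, commutatorElement_self, hyx, hmul (hT.comm_mem y₁ w)]
  obtain ⟨x₂, hx₂, hx₂a, hx₂b⟩ : ∃ x : P, x ∉ center P ∧ ⁅x₁, x⁆ ∈ U ∧ ⁅y₁, x⁆ ∈ U := by
    by_contra hh
    push Not at hh
    have hsurj : Function.Surjective (fun p : center P × (Bool × Bool) => (p.1 : P) * (k p.2)⁻¹) := fun w => by
      obtain ⟨i, h1, h2⟩ := hcorr w
      have hz : w * k i ∈ center P := by
        by_contra hn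
        exact hh _ hn h1 h2
      exact ⟨(⟨_, hz⟩, i), mul_inv_cancel_right w (k i)⟩
    have := Nat.card_le_card_of_surjective _ hsurj
    rw [hT.card, Nat.card_prod, hT.card_center, Nat.card_prod] at this
    simp at this
  obtain ⟨w, hw⟩ := exists_comm hT hx₂ ht
  obtain ⟨i, hi, -⟩ := hcorr w
  refine ⟨x₁, y₁, x₂, w * k i, Or.inl hy₁, (hout (hT.comm_mem _ _)).resolve_left fun h => ?_,
    hx₂a, hi⟩
  rw [comm_mul_right hT, hw] at h
  have hk : ⁅x₂, k i⁆ ∈ U := by
    rw [comm_symm hT] at hx₂a hx₂b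
    obtain ⟨a, b⟩ := i
    cases a <;> cases b <;>
      simp [k, comm_mul_right hT, hx₂a, hx₂b, U.mul_mem hx₂b hx₂a]
  rcases (mul_mem h (inv_mem hk) : t * ⁅x₂, k i⁆ * ⁅x₂, k i⁆⁻¹ ∈ U) with e | e <;>
    rw [mul_inv_cancel_right] at e
  · exact ht1 e
  · exact hne e.symm

theorem card_le_of_not_mem (X : Subgroup P) (htX : t ∈ X) (huX : u ∉ X) : Nat.card X ≤ 4 := by
  haveI : Finite P := Nat.finite_of_card_ne_zero (by rw [hT.card]; norm_num)
  have hXZ : ∀ c ∈ X, c ∈ center P → c = 1 ∨ c = t := fun c hcX hc => by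
    rcases center_cases hT ht hu ht1 hu1 hne hc with e | e | e | e
    · exact Or.inl e
    · exact Or.inr e
    · exact absurd (e ▸ hcX) huX
    · exact absurd (by simpa [e] using mul_mem (inv_mem htX) hcX) huX
  by_cases hcom : ∀ a ∈ X, ∀ b ∈ X, Commute a b
  · let sq : X →* P :=
      { toFun := fun a => (a : P) * a
        map_one' := mul_one 1
        map_mul' := fun a b => (hcom _ b.2 _ a.2).mul_mul_mul_comm _ _ }
    have h2 : ∀ (K : Subgroup P), (∀ c ∈ K, c = 1 ∨ c = t) → Nat.card K ≤ 2 := fun K hK => by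
      let T : Set P := {1, t}
      have : (K : Set P) ⊆ T := fun c hc => by simpa [T] using hK c hc
      calc Nat.card K = (K : Set P).ncard := Nat.card_coe_set_eq _
        _ ≤ T.ncard := Set.ncard_le_ncard this
        _ ≤ 2 := (Set.ncard_insert_le _ _).trans (by simp)
    have hr : Nat.card sq.range ≤ 2 := h2 _ (by
      rintro c ⟨a, rfl⟩
      exact hXZ _ (mul_mem a.2 a.2) (hT.sq_mem _))
    have hk : Nat.card sq.ker ≤ 2 := by
      rw [Nat.card_congr (sq.ker.equivMapOfInjective X.subtype X.subtype_injective).toEquiv]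
      refine h2 _ ?_
      rintro c ⟨a, ha, rfl⟩
      exact hXZ _ a.2 ((hT.center_iff _).2 ha)
    rw [← Subgroup.card_mul_index sq.ker, Subgroup.index_ker]
    exact Nat.mul_le_mul hk hr
  · exfalso
    push Not at hcom
    obtain ⟨a, ha, b, hb, hab⟩ := hcom
    have hnc : ∀ x y : P, ¬Commute x y → x ∉ center P := fun x y h hx =>
      h (mem_center_iff.1 hx y).symm
    have hsq : ∀ x ∈ X, x ∉ center P → x * x = t := fun x hxX hx =>
      (hXZ _ (mul_mem hxX hxX) (hT.sq_mem x)).resolve_left fun e => hx ((hT.center_iff x).2 e)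
    refine noQuat hT ht hu ht1 hu1 hne ?_ (hsq a ha (hnc a b hab))
      (hsq b hb (hnc b a fun h => hab h.symm))
    exact (hXZ _ (by rw [commutatorElement_def]; exact mul_mem (mul_mem (mul_mem ha hb) (inv_mem ha)) (inv_mem hb))
      (hT.comm_mem a b)).resolve_left fun e => hab (commutatorElement_eq_one_iff_commute.1 e)

end Abstract

section Ambient

variable {G : Type u} [Group G] [Finite G] {S : Sylow 2 G} (hT : UType ↥(S : Subgroup G) 2)

include hT

theorem quadMod {t u : G} (ht : t ∈ Zs S) (hu : u ∈ Zs S) (ht1 : t ≠ 1) (hu1 : u ≠ 1) (hne : u ≠ t) :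
    QuadMod (S : Subgroup G) t u := by
  obtain ⟨a, ha, rfl⟩ := ht
  obtain ⟨b, hb, rfl⟩ := hu
  replace ht1 : a ≠ 1 := fun h => ht1 (by rw [h, map_one])
  replace hu1 : b ≠ 1 := fun h => hu1 (by rw [h, map_one])
  replace hne : b ≠ a := fun h => hne (by rw [h])
  obtain ⟨x₁, y₁, x₂, y₂, h1, h2, h3, h4⟩ := quad hT ha hb ht1 hu1 hne
  have key : ∀ {x y c : (S : Subgroup G)}, ⁅x, y⁆ = c → (x : G) * y = y * x * c := fun {x y c} h => by
    have hc := hT.comm_mem x y
    rw [h] at hc
    have : x * y = y * x * c := by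
      rw [← central_comm hT hc, ← h, commutatorElement_def]; group
    exact congrArg Subtype.val this
  have sq : ∀ x : (S : Subgroup G), (x : G) * x ∈ ({1, (a : G), (b : G), (a : G) * b} : Set G) := fun x => by
    simp only [Set.mem_insert_iff, Set.mem_singleton_iff]
    rcases center_cases hT ha hb ht1 hu1 hne (hT.sq_mem x) with e | e | e | e
    · exact Or.inl (congrArg Subtype.val e)
    · exact Or.inr (Or.inl (congrArg Subtype.val e))
    · exact Or.inr (Or.inr (Or.inl (congrArg Subtype.val e)))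
    · exact Or.inr (Or.inr (Or.inr (congrArg Subtype.val e)))
  refine ⟨x₁, x₁.2, y₁, y₁.2, x₂, x₂.2, y₂, y₂.2, sq x₁, sq x₂, h1.imp key key, h2.imp key key,
    h3.imp (fun e => ?_) key, h4.imp (fun e => ?_) key⟩ <;>
  · simpa using key e

theorem pins {t u : G} (ht : t ∈ Zs S) (hu : u ∈ Zs S) (ht1 : t ≠ 1) (hu1 : u ≠ 1) (hne : u ≠ t) :
    Pins (S : Subgroup G) t u := by
  have htc := fun s (hs : s ∈ (S : Subgroup G)) => mem_centralizer_iff.1 (le_centralizer_Zs S hs)
  have ht2 := ((mem_Zs hT).1 ht).2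
  have hu2 := ((mem_Zs hT).1 hu).2
  refine ⟨Zs_le S ht, Zs_le S hu, ht2, hu2, ht1, fun s hs => htc s hs t ht, fun s hs => htc s hs u hu,
    quadMod hT ht hu ht1 hu1 hne, quadMod hT ht (mul_mem ht hu) ht1 ?_ ?_, fun X hX htX huX => ?_⟩
  · intro h
    exact hne ((inv_eq_of_mul_eq_one_right h).symm.trans (inv_eq_of_mul_eq_one_right ht2))
  · exact fun h => hu1 (mul_eq_left.1 h)
  · obtain ⟨a, ha, rfl⟩ := ht
    obtain ⟨b, hb, rfl⟩ := hu
    have := card_le_of_not_mem hT ha hb (fun h => ht1 (by rw [h, map_one]))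
      (fun h => hu1 (by rw [h, map_one])) (fun h => hne (by rw [h]))
      (X.subgroupOf (S : Subgroup G)) htX huX
    rw [Nat.card_congr (Subgroup.subgroupOfEquivOfLe hX).toEquiv] at this
    rw [hT.card]
    norm_num
    omega

end Ambient

end CfsgLib.UFour
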