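import Cfsg.Agent.Lib.Recog.UFourSylow.ThresholdLinear
import Cfsg.Prelude.Def_Characters
import Cfsg.Agent.Lib.Char.Integral
import Cfsg.Agent.Lib.Char.Rep

/-!
Owner: helper19. The threshold step of the `U₃(4)` Sylow corner (notes/u34_redteam_helper19.md): a faithful
character with `χ(1) - χ(t) < 32` which is constant on `t O` forces `[O, u] = 1`.
-/

set_option autoImplicit false

namespace CfsgLib.UFour

open Module Subgroup

universe u v

variable {G : Type u} [Group G]

/-- `S/⟨u⟩` contains two commuting pairs with commutator `t`. -/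
def QuadMod (S : Subgroup G) (t u : G) : Prop :=
  ∃ x₁ ∈ S, ∃ y₁ ∈ S, ∃ x₂ ∈ S, ∃ y₂ ∈ S,
    (x₁ * x₁ ∈ ({1, t, u, t * u} : Set G)) ∧ (x₂ * x₂ ∈ ({1, t, u, t * u} : Set G)) ∧
    (x₁ * y₁ = y₁ * x₁ * t ∨ x₁ * y₁ = y₁ * x₁ * (t * u)) ∧
    (x₂ * y₂ = y₂ * x₂ * t ∨ x₂ * y₂ = y₂ * x₂ * (t * u)) ∧
    (x₁ * x₂ = x₂ * x₁ ∨ x₁ * x₂ = x₂ * x₁ * u) ∧ (x₁ * y₂ = y₂ * x₁ ∨ x₁ * y₂ = y₂ * x₁ * u)

/-- What is used of a Sylow 2-subgroup of `U₃(4)` and two of its central involutions. -/
structure Pins (S : Subgroup G) (t u : G) : Prop where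
  t_mem : t ∈ S
  u_mem : u ∈ S
  t_sq : t * t = 1
  u_sq : u * u = 1
  t_ne : t ≠ 1
  t_comm : ∀ s ∈ S, t * s = s * t
  u_comm : ∀ s ∈ S, u * s = s * u
  quad_u : QuadMod S t u
  quad_v : QuadMod S t (t * u)
  stab : ∀ X : Subgroup G, X ≤ S → t ∈ X → u ∉ X → 8 * Nat.card X < Nat.card S

section Rep

variable {V : Type v} [AddCommGroup V] [Module ℂ V] (ρ : Representation ℂ G V)

/-- The vectors negated by `t`. -/
def negSpace (t : G) : Submodule ℂ V := Module.End.eigenspace (ρ t) (-1)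

/-- The vectors negated by `t` and fixed by `u`. -/
def negFix (t u : G) : Submodule ℂ V := Module.End.eigenspace (ρ t) (-1) ⊓ Module.End.eigenspace (ρ u) 1

theorem mem_negFix {t u : G} {v : V} : v ∈ negFix ρ t u ↔ ρ t v = -v ∧ ρ u v = v := by
  simp [negFix, Submodule.mem_inf, Module.End.mem_eigenspace_iff]

theorem mem_negSpace {t : G} {v : V} : v ∈ negSpace ρ t ↔ ρ t v = -v := by
  simp [negSpace, Module.End.mem_eigenspace_iff]

theorem apply_comm {g h : G} (e : g * h = h * g) (v : V) : ρ g (ρ h v) = ρ h (ρ g v) := by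
  rw [← Module.End.mul_apply, ← map_mul, e, map_mul, Module.End.mul_apply]

theorem apply_apply (g h : G) (v : V) : ρ g (ρ h v) = ρ (g * h) v := by
  rw [map_mul, Module.End.mul_apply]

variable [FiniteDimensional ℂ V]

theorem finrank_negSpace {t : G} (ht : t * t = 1) :
    2 * (finrank ℂ (negSpace ρ t) : ℂ) = finrank ℂ V - ρ.character t := by
  set P : Module.End ℂ V := (1 / 2 : ℂ) • (1 - ρ t) with hP
  have h2 : ∀ v, ρ t (ρ t v) = v := fun v => by rw [apply_apply, ht, map_one, Module.End.one_apply]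
  have hproj : LinearMap.IsProj (negSpace ρ t) P := by
    refine ⟨fun v => (mem_negSpace ρ).2 ?_, fun v hv => ?_⟩
    · simp only [hP, LinearMap.smul_apply, LinearMap.sub_apply, Module.End.one_apply, map_smul, map_sub, h2]
      module
    · simp only [hP, LinearMap.smul_apply, LinearMap.sub_apply, Module.End.one_apply, (mem_negSpace ρ).1 hv]
      module
  have h := hproj.trace
  rw [hP, map_smul, map_sub, LinearMap.trace_one, smul_eq_mul] at h
  show 2 * _ = (finrank ℂ V : ℂ) - LinearMap.trace ℂ V (ρ t)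
  rw [← h]
  ring

theorem finrank_negFix {t u : G} (ht : t * t = 1) (hu : u * u = 1) (htu : t * u = u * t) :
    4 * (finrank ℂ (negFix ρ t u) : ℂ) =
      finrank ℂ V + ρ.character u - ρ.character t - ρ.character (t * u) := by
  set P : Module.End ℂ V := (1 / 4 : ℂ) • (1 + ρ u - ρ t - ρ (t * u)) with hP
  have hproj : LinearMap.IsProj (negFix ρ t u) P := by
    refine ⟨fun v => (mem_negFix ρ).2 ?_, fun v hv => ?_⟩
    · simp only [hP, LinearMap.smul_apply, LinearMap.add_apply, LinearMap.sub_apply, Module.End.one_apply,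
        map_smul, map_sub, map_add, apply_apply, ← mul_assoc, ht, hu, one_mul, ← htu,
        show t * u * u = t by rw [mul_assoc, hu, mul_one], map_one, Module.End.one_apply]
      constructor <;> module
    · obtain ⟨h1, h2⟩ := (mem_negFix ρ).1 hv
      simp only [hP, LinearMap.smul_apply, LinearMap.add_apply, LinearMap.sub_apply, Module.End.one_apply,
        map_mul, Module.End.mul_apply, h2, h1]
      module
  have h := hproj.trace
  rw [hP, map_smul, map_sub, map_sub, map_add, LinearMap.trace_one, smul_eq_mul] at h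
  show 4 * _ = (finrank ℂ V : ℂ) + LinearMap.trace ℂ V (ρ u) - LinearMap.trace ℂ V (ρ t) -
    LinearMap.trace ℂ V (ρ (t * u))
  rw [← h]
  ring

theorem four_dvd_of_quad {S : Subgroup G} {t u : G} (hq : QuadMod S t u) {X : Submodule ℂ V}
    (hX : X ≤ negFix ρ t u) (hS : ∀ s ∈ S, ∀ v ∈ X, ρ s v ∈ X) : 4 ∣ finrank ℂ X := by
  obtain ⟨x₁, m₁, y₁, n₁, x₂, m₂, y₂, n₂, hs₁, hs₂, ha₁, ha₂, hxx, hxy⟩ := hq
  have hneg : ∀ v ∈ X, ρ t v = -v ∧ ρ u v = v := fun v hv => (mem_negFix ρ).1 (hX hv)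
  have htu : ∀ v ∈ X, ρ (t * u) v = -v := fun v hv => by
    rw [← apply_apply, (hneg v hv).2, (hneg v hv).1]
  have hsq : ∀ x : G, x * x ∈ ({1, t, u, t * u} : Set G) →
      ∃ ε : ℂ, ε ≠ 0 ∧ ∀ v ∈ X, ρ x (ρ x v) = ε • v := by
    intro x hx
    rcases hx with e | e | e | e
    · exact ⟨1, one_ne_zero, fun v hv => by rw [apply_apply, e, map_one, Module.End.one_apply, one_smul]⟩
    · exact ⟨-1, by norm_num, fun v hv => by rw [apply_apply, e, (hneg v hv).1, neg_smul, one_smul]⟩
    · exact ⟨1, one_ne_zero, fun v hv => by rw [apply_apply, e, (hneg v hv).2, one_smul]⟩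
    · exact ⟨-1, by norm_num, fun v hv => by rw [apply_apply, (show x * x = t * u from e), htu v hv, neg_smul, one_smul]⟩
  have hanti : ∀ x ∈ S, ∀ y ∈ S, x * y = y * x * t ∨ x * y = y * x * (t * u) →
      ∀ v ∈ X, ρ x (ρ y v) = -ρ y (ρ x v) := by
    intro x hx y hy h v hv
    rw [apply_apply]
    rcases h with e | e <;> rw [e, ← apply_apply, ← apply_apply]
    · rw [(hneg v hv).1, map_neg, map_neg]
    · rw [htu v hv, map_neg, map_neg]
  have hcom : ∀ x y : G, x * y = y * x ∨ x * y = y * x * u → ∀ v ∈ X, ρ x (ρ y v) = ρ y (ρ x v) := by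
    intro x y h v hv
    rcases h with e | e
    · exact apply_comm ρ e v
    · rw [apply_apply, e, ← apply_apply, ← apply_apply, (hneg v hv).2]
  obtain ⟨ε₁, hε₁, hs₁'⟩ := hsq _ hs₁
  obtain ⟨ε₂, hε₂, hs₂'⟩ := hsq _ hs₂
  exact four_dvd_finrank ρ (hS _ m₁) (hS _ n₁) (hS _ (inv_mem n₁)) (hS _ m₂) (hS _ n₂) (hS _ (inv_mem n₂))
    hε₁ hε₂ hs₁' hs₂' (hanti _ m₁ _ n₁ ha₁) (hanti _ m₂ _ n₂ ha₂) (hcom _ _ hxx) (hcom _ _ hxy)

theorem eq_bot_or_eq_of_quad {S : Subgroup G} {t u : G} (hq : QuadMod S t u)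
    (h4 : finrank ℂ (negFix ρ t u) = 4) {X : Submodule ℂ V} (hX : X ≤ negFix ρ t u)
    (hS : ∀ s ∈ S, ∀ v ∈ X, ρ s v ∈ X) : X = ⊥ ∨ X = negFix ρ t u := by
  have hd := four_dvd_of_quad ρ hq hX hS
  have hle := Submodule.finrank_mono hX
  rw [h4] at hle
  by_cases h : finrank ℂ X = 0
  · exact Or.inl (Submodule.finrank_eq_zero.1 h)
  · refine Or.inr (Submodule.eq_of_le_of_finrank_le hX ?_)
    have := Nat.le_of_dvd (Nat.pos_of_ne_zero h) hd
    omega

variable [Finite G]

/-- `[O, u]` is trivial on the vectors negated by `t`. -/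
theorem commute_on_negSpace {S O : Subgroup G} {t u : G} (hp : Pins S t u) (hOodd : Odd (Nat.card O))
    (hSO : S ≤ normalizer (O : Set G)) (htO : ∀ r ∈ O, t * r = r * t)
    (h4 : finrank ℂ (negFix ρ t u) = 4) (h4' : finrank ℂ (negFix ρ t (t * u)) = 4)
    (h8 : finrank ℂ (negSpace ρ t) = 8) :
    ∀ r ∈ O, ∀ v ∈ negSpace ρ t, ρ u (ρ r v) = ρ r (ρ u v) := by
  classical
  have htu : t * u = u * t := hp.t_comm u hp.u_mem
  set W := negSpace ρ t with hW
  set K : Subgroup G := O ⊔ S with hK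
  have htK : ∀ g ∈ K, t * g = g * t := by
    intro g hg
    refine (mem_centralizer_iff.1 ((sup_le ?_ ?_ : K ≤ centralizer ({t} : Set G)) hg) t rfl)
    · exact fun r hr => mem_centralizer_singleton_iff.2 (htO r hr).symm
    · exact fun s hs => mem_centralizer_singleton_iff.2 (hp.t_comm s hs).symm
  have hKW : ∀ g ∈ K, ∀ v ∈ W, ρ g v ∈ W := fun g hg v hv => (mem_negSpace ρ).2 (by
    rw [apply_comm ρ (htK g hg), (mem_negSpace ρ).1 hv, map_neg])
  -- the only invariant subspaces of `S`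
  have hdec : ∀ v ∈ W, ∃ a ∈ negFix ρ t u, ∃ b ∈ negFix ρ t (t * u),
      a = (1 / 2 : ℂ) • (v + ρ u v) ∧ b = (1 / 2 : ℂ) • (v - ρ u v) ∧ a + b = v := by
    intro v hv
    have h1 : ρ t v = -v := (mem_negSpace ρ).1 hv
    have h2 : ρ t (ρ u v) = -ρ u v := by rw [apply_comm ρ htu, h1, map_neg]
    have h3 : ρ u (ρ u v) = v := by rw [apply_apply, hp.u_sq, map_one, Module.End.one_apply]
    refine ⟨_, ?_, _, ?_, rfl, rfl, by module⟩
    · refine (mem_negFix ρ).2 ⟨?_, ?_⟩
      · rw [map_smul, map_add, h1, h2]; module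
      · rw [map_smul, map_add, h3]; module
    · refine (mem_negFix ρ).2 ⟨?_, ?_⟩
      · rw [map_smul, map_sub, h1, h2]; module
      · rw [map_smul, map_sub, ← apply_apply, ← apply_apply, h3, h2, h1]; module
  have hsub : ∀ Y ≤ W, (∀ g ∈ K, ∀ v ∈ Y, ρ g v ∈ Y) →
      Y = ⊥ ∨ Y = negFix ρ t u ∨ Y = negFix ρ t (t * u) ∨ Y = W := by
    intro Y hY hYK
    have huK : u ∈ K := mem_sup_right hp.u_mem
    have hsplit : Y ≤ Y ⊓ negFix ρ t u ⊔ Y ⊓ negFix ρ t (t * u) := fun v hv => by
      obtain ⟨a, ha, b, hb, ea, eb, hab⟩ := hdec v (hY hv)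
      rw [← hab]
      exact Submodule.add_mem_sup ⟨ea ▸ Y.smul_mem _ (Y.add_mem hv (hYK u huK v hv)), ha⟩
        ⟨eb ▸ Y.smul_mem _ (Y.sub_mem hv (hYK u huK v hv)), hb⟩
    have hinv : ∀ w : G, (∀ s ∈ S, w * s = s * w) → ∀ s ∈ S,
        ∀ v ∈ Y ⊓ negFix ρ t w, ρ s v ∈ Y ⊓ negFix ρ t w := fun w hw s hs v hv => by
      refine ⟨hYK s (mem_sup_right hs) v hv.1, (mem_negFix ρ).2 ?_⟩
      obtain ⟨e1, e2⟩ := (mem_negFix ρ).1 hv.2
      exact ⟨by rw [apply_comm ρ (hp.t_comm s hs), e1, map_neg], by rw [apply_comm ρ (hw s hs), e2]⟩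
    have htus : ∀ s ∈ S, t * u * s = s * (t * u) := fun s hs => by
      rw [mul_assoc, hp.u_comm s hs, ← mul_assoc, hp.t_comm s hs, mul_assoc]
    rcases eq_bot_or_eq_of_quad ρ hp.quad_u h4 inf_le_right (hinv u hp.u_comm) with e | e <;>
      rcases eq_bot_or_eq_of_quad ρ hp.quad_v h4' inf_le_right (hinv _ htus) with e' | e'
    · exact Or.inl (le_bot_iff.1 (hsplit.trans (by rw [e, e', sup_bot_eq])))
    · exact Or.inr (Or.inr (Or.inl (le_antisymm (hsplit.trans (by rw [e, e', bot_sup_eq])) (e'.ge.trans inf_le_left))))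
    · exact Or.inr (Or.inl (le_antisymm (hsplit.trans (by rw [e, e', sup_bot_eq])) (e.ge.trans inf_le_left)))
    · refine Or.inr (Or.inr (Or.inr (le_antisymm hY fun v hv => ?_)))
      obtain ⟨a, ha, b, hb, -, -, hab⟩ := hdec v hv
      rw [← hab]
      exact Y.add_mem (e.ge ha).1 (e'.ge hb).1
  let σ : Representation ℂ K W :=
    { toFun := fun g => (ρ (g : G)).restrict (hKW g g.2)
      map_one' := LinearMap.ext fun v => Subtype.ext (by simp)
      map_mul' := fun a b => LinearMap.ext fun v => Subtype.ext (by simp) }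
  haveI : Nontrivial W := Module.finrank_pos_iff.1 (by rw [h8]; norm_num : 0 < finrank ℂ W)
  by_cases hirr : σ.IsIrreducible
  · set A : Subgroup K := O.subgroupOf K with hA
    haveI : A.Normal := normal_subgroupOf_of_le_normalizer (sup_le le_normalizer hSO)
    have hAodd : Odd (Nat.card A) := by rwa [Nat.card_congr (subgroupOfEquivOfLe le_sup_left).toEquiv]
    have hcomm := commute_of_odd_normal σ A hAodd (k := 3) h8
    have hspan := CfsgLib.CharWeights.iSup_wspace_of_commute σ A hcomm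
    have hind := CfsgLib.CharWeights.iSupIndep_wspace_of_commute σ A hcomm
    have hmapG : ∀ (s : K) (a : A), s⁻¹ * (a : K) * s ∈ A := fun s a => by
      simpa using (inferInstance : A.Normal).conj_mem _ a.2 s⁻¹
    let act : K → (A → ℂ) → A → ℂ := fun s lam a => lam ⟨s⁻¹ * (a : K) * s, hmapG s a⟩
    have hact : ∀ (s : K) (lam : A → ℂ) (v : W), v ∈ CfsgLib.CharWeights.wspace σ A lam →
        σ s v ∈ CfsgLib.CharWeights.wspace σ A (act s lam) := fun s lam v hv =>
      CfsgLib.CharWeights.apply_mem_wspace σ A s (fun a => ⟨⟨_, hmapG s a⟩, rfl, rfl⟩) hv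
    set u' : K := ⟨u, mem_sup_right hp.u_mem⟩ with hu'
    set t' : K := ⟨t, mem_sup_right hp.t_mem⟩ with ht'
    by_cases hfix : ∀ lam, CfsgLib.CharWeights.wspace σ A lam ≠ ⊥ → act u' lam = lam
    · intro r hr v hv
      have hr' : (⟨r, mem_sup_left hr⟩ : K) ∈ A := mem_subgroupOf.2 hr
      suffices h : ∀ w : W, σ u' (σ ⟨r, mem_sup_left hr⟩ w) = σ ⟨r, mem_sup_left hr⟩ (σ u' w) from
        congrArg Subtype.val (h ⟨v, hv⟩)
      intro w
      induction (hspan ▸ Submodule.mem_top : w ∈ ⨆ lam, CfsgLib.CharWeights.wspace σ A lam)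
          using Submodule.iSup_induction' with
      | mem lam w hw =>
        by_cases h0 : CfsgLib.CharWeights.wspace σ A lam = ⊥
        · rw [h0, Submodule.mem_bot] at hw
          simp [hw]
        · have e1 := (CfsgLib.CharWeights.mem_wspace σ A).1 hw ⟨_, hr'⟩
          have e2 := (CfsgLib.CharWeights.mem_wspace σ A).1 (hact u' lam w hw) ⟨_, hr'⟩
          rw [hfix lam h0] at e2
          rw [e1, map_smul, e2]
      | zero => simp
      | add a b _ _ ha hb => simp only [map_add, ha, hb]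
    · exfalso
      push Not at hfix
      obtain ⟨lam, hlam, hne⟩ := hfix
      have hmul : ∀ (a b : K) (l : A → ℂ), act (a * b) l = act a (act b l) := fun a b l => by
        funext x
        exact congrArg l (Subtype.ext (by simp [mul_assoc]))
      have hone : ∀ l : A → ℂ, act 1 l = l := fun l => by
        funext x
        exact congrArg l (Subtype.ext (by simp))
      let X : Subgroup G :=
        { carrier := {s | ∃ h : s ∈ S, act ⟨s, mem_sup_right h⟩ lam = lam}
          one_mem' := ⟨one_mem _, hone lam⟩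
          mul_mem' := by
            rintro a b ⟨ha, ea⟩ ⟨hb, eb⟩
            refine ⟨mul_mem ha hb, ?_⟩
            show act (⟨a, mem_sup_right ha⟩ * ⟨b, mem_sup_right hb⟩) lam = lam
            rw [hmul, eb, ea]
          inv_mem' := by
            rintro a ⟨ha, ea⟩
            refine ⟨inv_mem ha, ?_⟩
            show act (⟨a, mem_sup_right ha⟩ : K)⁻¹ lam = lam
            conv_lhs => rw [← ea, ← hmul, inv_mul_cancel, hone] }
      have hX := hp.stab X (fun s hs => hs.1) ⟨hp.t_mem, funext fun x => congrArg lam (Subtype.ext (by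
        show t'⁻¹ * (x : K) * t' = x
        refine Subtype.ext ?_
        show t⁻¹ * ((x : K) : G) * t = _
        rw [mul_assoc, ← htK _ (x : K).2, inv_mul_cancel_left]))⟩ (fun h => hne h.2)
      let T := {l : A → ℂ // CfsgLib.CharWeights.wspace σ A l ≠ ⊥}
      haveI : Fintype T := iSupIndep.fintypeNeBotOfFiniteDimensional hind
      have hT : Fintype.card T ≤ 8 := h8 ▸ hind.subtype_ne_bot_le_finrank
      have hinjσ : ∀ s : K, Function.Injective (σ s) := fun s => (σ.apply_bijective s).1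
      let f : S → T := fun s => ⟨act ⟨s, mem_sup_right s.2⟩ lam, by
        obtain ⟨w, hw, hw0⟩ := (Submodule.ne_bot_iff _).1 hlam
        exact (Submodule.ne_bot_iff _).2 ⟨_, hact _ lam w hw, fun e => hw0 (hinjσ _ (e.trans (map_zero _).symm))⟩⟩
      haveI := Fintype.ofFinite S
      haveI := Fintype.ofFinite X
      have hfib : ∀ l ∈ (Finset.univ : Finset T), (Finset.univ.filter fun s => f s = l).card ≤ Nat.card X := by
        intro l _
        by_cases he : (Finset.univ.filter fun s => f s = l) = ∅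
        · rw [he]; simp
        obtain ⟨s₀, hs₀⟩ := Finset.nonempty_iff_ne_empty.2 he
        have hX : Nat.card X = (Set.toFinite (X : Set G)).toFinset.card :=
          Set.ncard_eq_toFinset_card (X : Set G) _
        rw [hX]
        refine Finset.card_le_card_of_injOn (fun s : S => (s₀ : G)⁻¹ * s) ?_ ?_
        · intro s hs
          simp only [Finset.coe_filter, Finset.mem_univ, true_and, Set.mem_setOf_eq] at hs
          rw [Finset.mem_coe, Set.Finite.mem_toFinset]
          refine ⟨mul_mem (inv_mem s₀.2) s.2, ?_⟩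
          have he0 : f s₀ = l := (Finset.mem_filter.1 hs₀).2
          have h1 : act ⟨s, mem_sup_right s.2⟩ lam = act ⟨s₀, mem_sup_right s₀.2⟩ lam :=
            congrArg Subtype.val (hs.trans he0.symm)
          show act ((⟨s₀, mem_sup_right s₀.2⟩ : K)⁻¹ * ⟨s, mem_sup_right s.2⟩) lam = lam
          rw [hmul, h1, ← hmul, inv_mul_cancel, hone]
        · intro a _ b _ hab
          exact Subtype.ext (mul_left_cancel hab)
      have hS : Fintype.card S ≤ Nat.card X * Fintype.card T :=
        Finset.card_le_mul_card_image_of_maps_to (fun s _ => Finset.mem_univ (f s)) _ hfib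
      rw [← Nat.card_eq_fintype_card] at hS
      have := Nat.mul_le_mul_left (Nat.card X) hT
      omega
  · obtain ⟨Y, Z, hYZ, hY0, hZ0⟩ := CfsgLib.Char.exists_isCompl_of_not_irreducible hirr
    have hU : ∀ Y : Subrepresentation σ, Y.toSubmodule ≠ ⊥ → Y.toSubmodule ≠ ⊤ →
        Y.toSubmodule.map W.subtype = negFix ρ t u ∨ Y.toSubmodule.map W.subtype = negFix ρ t (t * u) := by
      intro Y h0 h1
      have hinv : ∀ g ∈ K, ∀ v ∈ Y.toSubmodule.map W.subtype, ρ g v ∈ Y.toSubmodule.map W.subtype := by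
        rintro g hg _ ⟨w, hw, rfl⟩
        exact ⟨σ ⟨g, hg⟩ w, Y.apply_mem_toSubmodule _ hw, rfl⟩
      rcases hsub _ (Submodule.map_subtype_le W _) hinv with e | e | e | e
      · exact absurd (Submodule.map_injective_of_injective W.injective_subtype (e.trans (Submodule.map_bot _).symm)) h0
      · exact Or.inl e
      · exact Or.inr e
      · exact absurd (Submodule.map_injective_of_injective W.injective_subtype
          (e.trans (by rw [Submodule.map_top, Submodule.range_subtype]))) h1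
    have hY1 : Y.toSubmodule ≠ ⊤ := fun e => hZ0 (by rw [e] at hYZ; exact eq_bot_of_top_isCompl hYZ)
    have hZ1 : Z.toSubmodule ≠ ⊤ := fun e => hY0 (by rw [e] at hYZ; exact eq_bot_of_isCompl_top hYZ)
    intro r hr v hv
    have hrK : r ∈ K := mem_sup_left hr
    have hsg : ∀ Y : Subrepresentation σ, Y.toSubmodule ≠ ⊥ → Y.toSubmodule ≠ ⊤ →
        ∀ w ∈ Y.toSubmodule, ρ u (ρ r (w : V)) = ρ r (ρ u (w : V)) := by
      intro Y h0 h1 w hw
      have hw' : (w : V) ∈ Y.toSubmodule.map W.subtype := ⟨w, hw, rfl⟩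
      have hrw : ρ r (w : V) ∈ Y.toSubmodule.map W.subtype := ⟨σ ⟨r, hrK⟩ w, Y.apply_mem_toSubmodule _ hw, rfl⟩
      have hneg : ∀ z ∈ negFix ρ t (t * u), ρ u z = -z := fun z hz => by
        obtain ⟨e1, e2⟩ := (mem_negFix ρ).1 hz
        have h3 : ρ (t * u) (ρ t z) = ρ u z := by
          rw [apply_apply, htu, mul_assoc, hp.t_sq, mul_one]
        rw [← h3, e1, map_neg, e2]
      rcases hU Y h0 h1 with e | e <;> rw [e] at hw' hrw
      · rw [((mem_negFix ρ).1 hw').2, ((mem_negFix ρ).1 hrw).2]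
      · rw [hneg _ hw', hneg _ hrw, map_neg]
    obtain ⟨a, ha, b, hb, hab⟩ := Submodule.mem_sup.1 (hYZ.sup_eq_top ▸ Submodule.mem_top : (⟨v, hv⟩ : W) ∈ Y.toSubmodule ⊔ Z.toSubmodule)
    rw [show v = (a : V) + b from (congrArg Subtype.val hab).symm, map_add, map_add, map_add, map_add,
      hsg Y hY0 hY1 a ha, hsg Z hZ0 hZ1 b hb]

/-- The threshold step. -/
theorem commute_of_threshold {S O : Subgroup G} {t u : G} (hp : Pins S t u) (hOodd : Odd (Nat.card O))
    (hSO : S ≤ normalizer (O : Set G)) (htO : ∀ r ∈ O, t * r = r * t) (hinj : Function.Injective ρ) {T : ℤ}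
    (hu : ρ.character u = T) (htu : ρ.character (t * u) = T) (hO : ∀ r ∈ O, ρ.character (t * r) = T)
    (hlt : (finrank ℂ V : ℤ) - T < 32) : ∀ r ∈ O, u * r = r * u := by
  have ht : ρ.character t = T := by simpa using hO 1 (one_mem _)
  have hc : t * u = u * t := hp.t_comm u hp.u_mem
  have h1 := finrank_negFix ρ hp.t_sq hp.u_sq hc
  have h2 := finrank_negFix ρ hp.t_sq (u := t * u) (by rw [show t * u * (t * u) = t * t * (u * u) by
    rw [mul_assoc, ← mul_assoc u t, ← hc]; group, hp.t_sq, hp.u_sq, one_mul]) (by rw [hc, ← mul_assoc, hc])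
  have h3 := finrank_negSpace ρ hp.t_sq
  rw [← mul_assoc, hp.t_sq, one_mul, htu, ht, hu] at h2
  rw [htu, ht, hu] at h1
  rw [ht] at h3
  set a := finrank ℂ (negFix ρ t u) with ha
  have ea : (4 * a : ℤ) = finrank ℂ V - T := by
    have : ((4 * a : ℤ) : ℂ) = ((finrank ℂ V - T : ℤ) : ℂ) := by push_cast; linear_combination h1
    exact_mod_cast this
  have eb : (4 * finrank ℂ (negFix ρ t (t * u)) : ℤ) = finrank ℂ V - T := by
    have : ((4 * finrank ℂ (negFix ρ t (t * u)) : ℤ) : ℂ) = ((finrank ℂ V - T : ℤ) : ℂ) := by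
      push_cast; linear_combination h2
    exact_mod_cast this
  have ec : (2 * finrank ℂ (negSpace ρ t) : ℤ) = finrank ℂ V - T := by
    have : ((2 * finrank ℂ (negSpace ρ t) : ℤ) : ℂ) = ((finrank ℂ V - T : ℤ) : ℂ) := by
      push_cast; linear_combination h3
    exact_mod_cast this
  have hS : ∀ s ∈ S, ∀ v ∈ negFix ρ t u, ρ s v ∈ negFix ρ t u := fun s hs v hv => (mem_negFix ρ).2
    ⟨by rw [apply_comm ρ (hp.t_comm s hs), ((mem_negFix ρ).1 hv).1, map_neg],
      by rw [apply_comm ρ (hp.u_comm s hs), ((mem_negFix ρ).1 hv).2]⟩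
  have hd := four_dvd_of_quad ρ hp.quad_u le_rfl hS
  have ha0 : a ≠ 0 := fun e => by
    have h0 : finrank ℂ (negSpace ρ t) = 0 := by omega
    have hb : negSpace ρ t = ⊥ := Submodule.finrank_eq_zero.1 h0
    refine hp.t_ne (hinj (LinearMap.ext fun v => ?_))
    have hv : v - ρ t v ∈ negSpace ρ t := (mem_negSpace ρ).2 (by
      rw [map_sub, apply_apply, hp.t_sq, map_one, Module.End.one_apply, neg_sub])
    rw [hb, Submodule.mem_bot, sub_eq_zero] at hv
    rw [map_one, Module.End.one_apply, ← hv]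
  have hkey := commute_on_negSpace ρ hp hOodd hSO htO (by omega) (by omega) (by omega)
  intro r hr
  -- the commutator is in the kernel
  have hconj : r⁻¹ * (u * r * u) ∈ O := mul_mem (inv_mem hr) (by
    have hu' : u⁻¹ = u := inv_eq_of_mul_eq_one_right hp.u_sq
    have := (mem_normalizer_iff.1 (hSO hp.u_mem) r).1 hr
    rwa [hu'] at this)
  set c := r⁻¹ * (u * r * u) with hcd
  have hcW : ∀ v ∈ negSpace ρ t, ρ c v = v := fun v hv => by
    rw [hcd, ← apply_apply, ← apply_apply, ← apply_apply]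
    have hu' : ρ u v ∈ negSpace ρ t := (mem_negSpace ρ).2 (by
      rw [apply_comm ρ hc, (mem_negSpace ρ).1 hv, map_neg])
    rw [hkey r hr _ hu', apply_apply ρ u u, hp.u_sq, map_one, Module.End.one_apply, apply_apply, inv_mul_cancel,
      map_one, Module.End.one_apply]
  have hker : ρ.character c = finrank ℂ V := by
    have hdiff : ρ c - ρ (t * c) = 1 - ρ t := by
      refine LinearMap.ext fun v => ?_
      have hv : v - ρ t v ∈ negSpace ρ t := (mem_negSpace ρ).2 (by
        rw [map_sub, apply_apply, hp.t_sq, map_one, Module.End.one_apply, neg_sub])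
      have := hcW _ hv
      rw [map_sub] at this
      simp only [LinearMap.sub_apply, Module.End.one_apply, map_mul, Module.End.mul_apply]
      rw [apply_comm ρ (htO c hconj), this]
    have h := congrArg (LinearMap.trace ℂ V) hdiff
    rw [map_sub, map_sub, LinearMap.trace_one] at h
    have h' : ρ.character c - ρ.character (t * c) = finrank ℂ V - ρ.character t := h
    rw [hO c hconj, ht] at h'
    linear_combination h'
  have hc1 : c = 1 := hinj ((CfsgLib.CharIntegral.character_eq_finrank_iff ρ c).1 hker |>.trans (map_one ρ).symm)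
  calc u * r = r * c * u := by rw [hcd, mul_inv_cancel_left, mul_assoc (u * r) u u, hp.u_sq, mul_one]
    _ = r * u := by rw [hc1, mul_one]

end Rep

end CfsgLib.UFour
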