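import Cfsg.Agent.Lib.Char.Weights
import Cfsg.Agent.Lib.Char.Central

/-!
Owner: helper19. Linear algebra of the threshold step of the `U₃(4)` Sylow corner.
-/

set_option autoImplicit false

namespace CfsgLib.UFour

open Module

universe u v

section Half

variable {X : Type v} [AddCommGroup X] [Module ℂ X] [FiniteDimensional ℂ X]

/-- The fixed space of an idempotent multiple of `1 + β a`. -/
theorem exists_half {a b b' : Module.End ℂ X} {ε : ℂ} (hε : ε ≠ 0) (ha : a * a = ε • 1)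
    (hb : b * b' = 1) (hb' : b' * b = 1) (hab : a * b = -(b * a)) :
    ∃ Y : Submodule ℂ X, 2 * finrank ℂ Y = finrank ℂ X ∧
      ∀ c : Module.End ℂ X, a * c = c * a → ∀ v ∈ Y, c v ∈ Y := by
  obtain ⟨α, hα⟩ := IsAlgClosed.exists_pow_nat_eq ε (n := 2) (by norm_num)
  have hα0 : α ≠ 0 := fun h => hε (by rw [← hα, h]; ring)
  set P : Module.End ℂ X := (1 / 2 : ℂ) • (1 + α⁻¹ • a) with hP
  have hPv : ∀ v, P v = (1 / 2 : ℂ) • (v + α⁻¹ • a v) := fun v => by simp [hP]
  refine ⟨Module.End.eigenspace a α, ?_, fun c hc v hv => ?_⟩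
  · have haa : ∀ v, a (a v) = ε • v := fun v => by
      have := LinearMap.congr_fun ha v
      simpa using this
    have hproj : LinearMap.IsProj (Module.End.eigenspace a α) P := by
      refine ⟨fun v => Module.End.mem_eigenspace_iff.2 ?_, fun v hv => ?_⟩
      · rw [hPv, map_smul, map_add, map_smul, haa, ← hα]
        match_scalars <;> field_simp
      · rw [hPv, Module.End.mem_eigenspace_iff.1 hv, smul_smul, inv_mul_cancel₀ hα0, one_smul]
        module
    have htr : LinearMap.trace ℂ X a = 0 := by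
      have h1 : a = -(b * a * b') := by
        calc a = a * (b * b') := by rw [hb, mul_one]
          _ = _ := by rw [← mul_assoc, hab, neg_mul]
      have h2 : LinearMap.trace ℂ X (b * a * b') = LinearMap.trace ℂ X a := by
        rw [LinearMap.trace_mul_comm, ← mul_assoc, hb', one_mul]
      have h3 : LinearMap.trace ℂ X a = - LinearMap.trace ℂ X a := by
        conv_lhs => rw [h1, map_neg, h2]
      linear_combination h3 / 2
    have h := hproj.trace
    rw [hP, map_smul, map_add, map_smul, htr, LinearMap.trace_one, smul_zero, add_zero, smul_eq_mul] at h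
    exact_mod_cast (show (2 * finrank ℂ (Module.End.eigenspace a α) : ℂ) = finrank ℂ X by
      rw [← h]; ring)
  · refine Module.End.mem_eigenspace_iff.2 ?_
    have := LinearMap.congr_fun hc v
    simp only [Module.End.mul_apply] at this
    rw [this, Module.End.mem_eigenspace_iff.1 hv, map_smul]

end Half

variable {G : Type u} [Group G] {V : Type v} [AddCommGroup V] [Module ℂ V] [FiniteDimensional ℂ V]
  (ρ : Representation ℂ G V)

/-- Two anticommuting pairs which commute with each other divide the dimension by four. -/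
theorem four_dvd_finrank {X : Submodule ℂ V} {x₁ y₁ x₂ y₂ : G}
    (hx₁ : ∀ v ∈ X, ρ x₁ v ∈ X) (hy₁ : ∀ v ∈ X, ρ y₁ v ∈ X) (hy₁' : ∀ v ∈ X, ρ y₁⁻¹ v ∈ X)
    (hx₂ : ∀ v ∈ X, ρ x₂ v ∈ X) (hy₂ : ∀ v ∈ X, ρ y₂ v ∈ X) (hy₂' : ∀ v ∈ X, ρ y₂⁻¹ v ∈ X)
    {ε₁ ε₂ : ℂ} (hε₁ : ε₁ ≠ 0) (hε₂ : ε₂ ≠ 0)
    (s₁ : ∀ v ∈ X, ρ x₁ (ρ x₁ v) = ε₁ • v) (s₂ : ∀ v ∈ X, ρ x₂ (ρ x₂ v) = ε₂ • v)
    (a₁ : ∀ v ∈ X, ρ x₁ (ρ y₁ v) = -ρ y₁ (ρ x₁ v)) (a₂ : ∀ v ∈ X, ρ x₂ (ρ y₂ v) = -ρ y₂ (ρ x₂ v))
    (cxx : ∀ v ∈ X, ρ x₁ (ρ x₂ v) = ρ x₂ (ρ x₁ v)) (cxy : ∀ v ∈ X, ρ x₁ (ρ y₂ v) = ρ y₂ (ρ x₁ v)) :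
    4 ∣ finrank ℂ X := by
  let A := (ρ x₁).restrict hx₁
  let C := (ρ x₂).restrict hx₂
  let E := (ρ y₂).restrict hy₂
  let E' := (ρ y₂⁻¹).restrict hy₂'
  have hinv : ∀ (g : G) (w : V), ρ g (ρ g⁻¹ w) = w := fun g w => by
    rw [← Module.End.mul_apply, ← map_mul, mul_inv_cancel, map_one, Module.End.one_apply]
  have hinv' : ∀ (g : G) (w : V), ρ g⁻¹ (ρ g w) = w := fun g w => by
    rw [← Module.End.mul_apply, ← map_mul, inv_mul_cancel, map_one, Module.End.one_apply]
  obtain ⟨Y, hY, hYc⟩ := exists_half (a := A) (b := (ρ y₁).restrict hy₁) (b' := (ρ y₁⁻¹).restrict hy₁') hε₁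
    (LinearMap.ext fun v => Subtype.ext (s₁ v v.2)) (LinearMap.ext fun v => Subtype.ext (hinv _ _))
    (LinearMap.ext fun v => Subtype.ext (hinv' _ _)) (LinearMap.ext fun v => Subtype.ext (a₁ v v.2))
  have hC : ∀ v ∈ Y, C v ∈ Y := hYc C (LinearMap.ext fun v => Subtype.ext (cxx v v.2))
  have hE : ∀ v ∈ Y, E v ∈ Y := hYc E (LinearMap.ext fun v => Subtype.ext (cxy v v.2))
  have hE' : ∀ v ∈ Y, E' v ∈ Y := hYc E' (LinearMap.ext fun v => Subtype.ext (by
    show ρ x₁ (ρ y₂⁻¹ v) = ρ y₂⁻¹ (ρ x₁ v)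
    have h := congrArg (ρ y₂⁻¹) (cxy _ (hy₂' v v.2))
    rw [hinv' y₂, hinv y₂] at h
    exact h.symm))
  obtain ⟨Z, hZ, -⟩ := exists_half (a := C.restrict hC) (b := E.restrict hE) (b' := E'.restrict hE') hε₂
    (LinearMap.ext fun v => Subtype.ext (Subtype.ext (s₂ _ v.1.2)))
    (LinearMap.ext fun v => Subtype.ext (Subtype.ext (hinv _ _)))
    (LinearMap.ext fun v => Subtype.ext (Subtype.ext (hinv' _ _)))
    (LinearMap.ext fun v => Subtype.ext (Subtype.ext (a₂ _ v.1.2)))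
  exact ⟨finrank ℂ Z, by omega⟩

variable [Finite G]

/-- In an irreducible representation of dimension a power of two a normal subgroup of odd order acts
by commuting operators. -/
theorem commute_of_odd_normal [ρ.IsIrreducible] (N : Subgroup G) [N.Normal] (hodd : Odd (Nat.card N)) {k : ℕ}
    (hdim : finrank ℂ V = 2 ^ k) : ∀ a b : N, Commute (ρ (a : G)) (ρ (b : G)) := by
  classical
  haveI := CfsgLib.CharIntegral.nontrivial_of_irreducible ρ
  let Inv : Submodule ℂ V → Prop := fun Y => ∀ r : N, ∀ v ∈ Y, ρ (r : G) v ∈ Y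
  obtain ⟨M, ⟨hM0, hMi⟩, hmin⟩ := WellFounded.has_min wellFounded_lt {Y : Submodule ℂ V | Y ≠ ⊥ ∧ Inv Y}
    ⟨⊤, top_ne_bot, fun _ _ _ => Submodule.mem_top⟩
  set n := finrank ℂ M with hn
  -- the restriction to `M` is irreducible
  let τ : Representation ℂ N M :=
    { toFun := fun r => (ρ (r : G)).restrict (hMi r)
      map_one' := LinearMap.ext fun v => Subtype.ext (by simp)
      map_mul' := fun a b => LinearMap.ext fun v => Subtype.ext (by simp) }
  haveI : Nontrivial M := Submodule.nontrivial_iff_ne_bot.2 hM0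
  have hτ : τ.IsIrreducible := by
    haveI : Nontrivial (Subrepresentation τ) :=
      ⟨⊥, ⊤, fun h => bot_ne_top (congrArg Subrepresentation.toSubmodule h)⟩
    refine ⟨fun S => ?_⟩
    by_cases h0 : S.toSubmodule = ⊥
    · exact Or.inl (Subrepresentation.toSubmodule_injective h0)
    · refine Or.inr (Subrepresentation.toSubmodule_injective ?_)
      have h1 : S.toSubmodule.map M.subtype = M := by
        by_contra hne
        refine hmin (S.toSubmodule.map M.subtype) ⟨fun e => h0 ?_, ?_⟩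
          (lt_of_le_of_ne (Submodule.map_subtype_le M _) hne)
        · exact Submodule.map_injective_of_injective M.injective_subtype (by rw [e, Submodule.map_bot])
        · rintro r _ ⟨w, hw, rfl⟩
          exact ⟨τ r w, S.apply_mem_toSubmodule r hw, rfl⟩
      show S.toSubmodule = ⊤
      apply Submodule.map_injective_of_injective M.injective_subtype
      rw [h1, Submodule.map_top, Submodule.range_subtype]
  have hnodd : Odd n := hodd.of_dvd_nat (CfsgLib.CharIntegral.finrank_dvd_card τ)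
  -- a largest invariant subspace of dimension divisible by `n`
  obtain ⟨Y, ⟨hYi, hYd⟩, hmax⟩ := WellFounded.has_min (wellFounded_gt (α := Submodule ℂ V))
    {Y : Submodule ℂ V | Inv Y ∧ n ∣ finrank ℂ Y} ⟨⊥, fun r v hv => by simp_all, by simp⟩
  have hinj : ∀ g : G, Function.Injective (ρ g) := fun g => (ρ.apply_bijective g).1
  have htr : ∀ (g : G) (r : N) (v : V), ρ (r : G) (ρ g v) = ρ g (ρ ((g⁻¹ * r * g : G)) v) := fun g r v => by
    rw [← Module.End.mul_apply, ← map_mul, ← Module.End.mul_apply, ← map_mul]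
    congr 2; group
  have hconj : ∀ (g : G) (r : N), g⁻¹ * (r : G) * g ∈ N := fun g r => by
    simpa using (inferInstance : N.Normal).conj_mem _ r.2 g⁻¹
  have hle : ∀ g : G, M.map (ρ g) ≤ Y := by
    intro g
    have hgi : Inv (M.map (ρ g)) := by
      rintro r _ ⟨w, hw, rfl⟩
      exact ⟨_, hMi ⟨_, hconj g r⟩ w hw, (htr g r w).symm⟩
    have hgd : finrank ℂ (M.map (ρ g)) = n := (Submodule.equivMapOfInjective _ (hinj g) M).finrank_eq.symm
    by_contra hno
    have hdisj : Y ⊓ M.map (ρ g) = ⊥ := by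
      by_contra hne
      apply hno
      obtain ⟨w, hw, hw0⟩ := (Submodule.ne_bot_iff _).1 hne
      obtain ⟨m, hm, rfl⟩ := hw.2
      by_contra hno'
      refine hmin (M ⊓ Y.comap (ρ g)) ⟨(Submodule.ne_bot_iff _).2 ⟨m, ⟨hm, hw.1⟩, fun e => hw0 (by rw [e, map_zero])⟩,
        fun r v hv => ⟨hMi r v hv.1, ?_⟩⟩ (lt_of_le_of_ne inf_le_left fun e => hno' ?_)
      · show ρ g (ρ (r : G) v) ∈ Y
        have h1 := hYi ⟨g * r * g⁻¹, (inferInstance : N.Normal).conj_mem _ r.2 g⟩ _ hv.2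
        rw [htr g] at h1
        simpa [mul_assoc] using h1
      · rintro _ ⟨v, hv, rfl⟩
        exact (e.ge hv).2
    refine hmax (Y ⊔ M.map (ρ g)) ⟨fun r v hv => ?_, ?_⟩ (lt_of_le_of_ne le_sup_left fun e => hno (le_sup_right.trans e.ge))
    · obtain ⟨y, hy, z, hz, rfl⟩ := Submodule.mem_sup.1 hv
      rw [map_add]
      exact Submodule.add_mem_sup (hYi r y hy) (hgi r z hz)
    · have h := Submodule.finrank_sup_add_finrank_inf_eq Y (M.map (ρ g))
      rw [hdisj, finrank_bot, add_zero, hgd] at h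
      rw [h]
      exact hYd.add dvd_rfl
  have hspan : (⨆ g : G, M.map (ρ g)) = ⊤ := by
    refine CfsgLib.CharWeights.eq_top_of_invariant ρ _ (fun h v hv => ?_) fun e => hM0 ?_
    · have : (⨆ g : G, M.map (ρ g)).map (ρ h) ≤ ⨆ g : G, M.map (ρ g) := by
        rw [Submodule.map_iSup]
        refine iSup_le fun g => le_iSup_of_le (h * g) (le_of_eq ?_)
        rw [← Submodule.map_comp, map_mul]; rfl
      exact this ⟨v, hv, rfl⟩
    · refine le_bot_iff.1 fun v hv => ?_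
      have : ρ 1 v ∈ (⊥ : Submodule ℂ V) := e ▸ Submodule.mem_iSup_of_mem 1 ⟨v, hv, rfl⟩
      simpa using this
  have hYtop : Y = ⊤ := top_le_iff.1 (hspan ▸ iSup_le hle)
  rw [hYtop, finrank_top, hdim] at hYd
  have hn1 : n = 1 :=
    Nat.eq_one_of_dvd_coprimes ((Nat.coprime_two_right.2 hnodd).pow_right k) dvd_rfl hYd
  obtain ⟨m₀, hm₀⟩ := finrank_eq_one_iff'.1 (hn1 : finrank ℂ M = 1)
  intro a b
  refine LinearMap.ext fun v => ?_
  induction (hspan ▸ Submodule.mem_top : v ∈ ⨆ g : G, M.map (ρ g)) using Submodule.iSup_induction' with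
  | mem g w hw =>
    obtain ⟨m, hm, rfl⟩ := hw
    have hsc : ∀ r : N, ∃ c : ℂ, ρ (r : G) m = c • m := fun r => by
      obtain ⟨c₀, h₀⟩ := hm₀.2 ⟨m, hm⟩
      obtain ⟨c₁, h₁⟩ := hm₀.2 ⟨_, hMi r _ m₀.2⟩
      refine ⟨c₁, ?_⟩
      have e₀ : c₀ • (m₀ : V) = m := congrArg Subtype.val h₀
      have e₁ : c₁ • (m₀ : V) = ρ (r : G) m₀ := congrArg Subtype.val h₁
      rw [← e₀, map_smul, ← e₁, smul_comm]
    obtain ⟨ca, ha⟩ := hsc ⟨_, hconj g a⟩
    obtain ⟨cb, hb⟩ := hsc ⟨_, hconj g b⟩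
    simp only [Module.End.mul_apply, htr g b, htr g a, ha, hb, map_smul, smul_comm ca cb]
  | zero => simp
  | add x y _ _ hx hy => simp only [map_add, hx, hy]

end CfsgLib.UFour
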